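import Groth.Agent.Sga3B.AlgBc
import Groth.Agent.Sga3B.TorusAlgClosed
import Groth.Prelude.Def_SGA3x

/-!
# Maximal tori of groups of unipotent rank zero are Cartan subgroups
-/

set_option autoImplicit false

universe u

open CategoryTheory MonoidalCategory CartesianMonoidalCategory MonObj GrpObj AlgebraicGeometry Limits

namespace Groth.Agent.Sga3.H804.CartanC2

open Groth.Agent.Sga3B

/-- Clause (2) of S4124. -/
theorem isCartan_of_isMaximalTorus {S : Scheme.{u}} (G : Over S) [GrpObj G]
    (hu : SGA3x.UnipotentRankZero G) (T : Over S) [GrpObj T] (i : T ⟶ G)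
    (hi : Red.IsMaximalTorus i) : SGA3x.IsCartan i := by
  have h1 : IsMonHom i := hi.1
  have h2 : Mono i := hi.2.1
  refine ⟨h1, h2, TorusAlgClosed.smooth_of_isTorus hi.2.2.1, fun s => ⟨inferInstance, inferInstance,
    _, inferInstance, _, AlgBc.isMaximalTorus_bc (Red.geomPt s) hi,
    hu s _ _ (AlgBc.isMaximalTorus_bc (Red.geomPt s) hi)⟩⟩

end Groth.Agent.Sga3.H804.CartanC2
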