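import Groth.Agent.Sga3B.MaxTorBc636
import Groth.Agent.Sga3.H798.CentSep
import Groth.Agent.Sga3.H799.FibCrit
import Groth.Agent.Sga3B.SplitBc264

/-!
# A torus which is its own centralizer on all geometric fibres is its own centralizer
-/

set_option autoImplicit false

universe u

open CategoryTheory MonoidalCategory CartesianMonoidalCategory MonObj GrpObj AlgebraicGeometry Limits

namespace Groth.Agent.Sga3.H804.SelfCFib

open Groth.Agent.Sga3B Groth.Agent.Sga3B.MaxTorBc636

variable {S : Scheme.{u}}

/-- A torus of a smooth separated group which is its own centralizer on the geometric fibres is its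
own centralizer. -/
theorem selfC_of_geomFibre {T G : Over S} [GrpObj T] [GrpObj G] [Smooth G.hom] [IsSeparated G.hom]
    (i : T ⟶ G) [IsMonHom i] [Mono i] (hT : Red.IsTorus T)
    (h : ∀ s : S, SelfC ((Over.pullback (Red.geomPt s)).map i)) : SelfC i := by
  obtain ⟨Z, _, z, hz, hzc, hZs, -⟩ := H798.CentSep.exists_smooth_centralizer i hT
  have hzm : Mono z := hz.2.1
  have hTs : Smooth T.hom := TorusAlgClosed.smooth_of_isTorus hT
  obtain ⟨t, ht⟩ := (hz.2.2 T i).mpr (fun X' x h' => by
    rw [← MonObj.mul_comp, ← MonObj.mul_comp, MaxTorNear900.mul_comm_of_isTorus hT])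
  have htm : Mono t := by
    have : Mono (t ≫ z) := by rw [ht]; infer_instance
    exact mono_of_mono t z
  have hti : IsIso t := by
    refine H799.FibCrit.isIso_of_points t fun s => ?_
    refine ⟨_, inferInstance, Red.geomPt s, ?_, ?_⟩
    · rw [Scheme.Hom.comp_apply]
      exact Scheme.fromSpecResidueField_apply _ _
    · have h1 := SplitBc264.isCentralizerOf_bc (Red.geomPt s) hz
      have h2 : Mono ((Over.pullback (Red.geomPt s)).map z) := h1.2.1
      obtain ⟨a, ha⟩ := h s _ ((Over.pullback (Red.geomPt s)).map z) ((h1.2.2 _ _).mp ⟨𝟙 _, Category.id_comp _⟩)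
      have h3 : Mono ((Over.pullback (Red.geomPt s)).map i) := inferInstance
      refine ⟨a, ?_, ?_⟩
      · rw [← cancel_mono ((Over.pullback (Red.geomPt s)).map i), Category.assoc, ha, Category.id_comp,
          ← Functor.map_comp, ht]
      · rw [← cancel_mono ((Over.pullback (Red.geomPt s)).map z), Category.assoc, ← Functor.map_comp, ht,
          ha, Category.id_comp]
  intro X g hg
  obtain ⟨b, hb⟩ := (hz.2.2 X g).mpr hg
  exact ⟨b ≫ inv t, by rw [← ht, Category.assoc, IsIso.inv_hom_id_assoc, hb]⟩

end Groth.Agent.Sga3.H804.SelfCFib
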