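import Groth.Agent.Sga3.H804.QaMain
import Groth.Agent.Sga3.H804.SelfCFib
import Groth.Agent.Sga3.H832.SelfCent
import Groth.Agent.Sga3B.GLn
import Groth.Agent.Desc.QAffDesc
import Groth.Agent.S4094
import Groth.Agent.Sga3.H819.CentKer

/-!
# Quasi-affineness of groups of unipotent rank zero
-/

set_option autoImplicit false

universe u

open CategoryTheory MonoidalCategory CartesianMonoidalCategory MonObj GrpObj AlgebraicGeometry Limits

namespace Groth.Agent.Sga3.H804.QaFinal

open Groth.Agent.Sga3B.MaxTorBc636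

/-- Quasi-affineness when there is a self-centralizing torus. -/
theorem isQuasiAffine_of_selfC {S : Scheme.{u}} {G T : Over S} [GrpObj G]
    [GrpObj T] [Smooth G.hom] [QuasiCompact G.hom] [IsSeparated G.hom]
    (hconn : ∀ s : S, _root_.IsConnected (G.hom.base ⁻¹' {s})) (i : T ⟶ G) (hT : Red.IsTorus T)
    [hi : IsMonHom i] [hm : Mono i] (hc : SelfC i) : Mor2.IsQuasiAffine G.hom := by
  change Ega2.QuasiAffine.QAff G.hom
  choose U hsU hUa m i1 i2 ρ hρ hcen using fun s => H819.CentKer.exists_rep_central G hconn s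
  rw [IsZariskiLocalAtTarget.iff_of_iSup_eq_top (P := Ega2.QuasiAffine.QAff.{u}) U (by
    rw [eq_top_iff]
    intro s _
    exact TopologicalSpace.Opens.mem_iSup.mpr ⟨s, hsU s⟩)]
  intro s
  have h1 : Smooth (Red.bc (U s).ι G).hom := inferInstanceAs (Smooth (pullback.snd G.hom (U s).ι))
  have h2 : QuasiCompact (Red.bc (U s).ι G).hom :=
    inferInstanceAs (QuasiCompact (pullback.snd G.hom (U s).ι))
  have hρ' := hρ s
  have h3 : Mor2.IsQuasiAffine (Red.bc (U s).ι G).hom :=
    QaMain.isQuasiAffine_of_rep (fun G H => by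
      intro _ _ _ _ u _ hK
      exact Groth.Agent.S4094.result _ G H u hK) ((Over.pullback (U s).ι).map i)
      (Sga3B.TorusBc.isTorus_bc (U s).ι hT) inferInstance inferInstance (selfC_bc (U s).ι hc) (ρ s)
      (hcen s)
  have h4 : Ega2.QuasiAffine.QAff (pullback.snd G.hom (U s).ι) := h3
  have h5 : G.hom ∣_ (U s) = (pullbackRestrictIsoRestrict G.hom (U s)).inv ≫
      pullback.snd G.hom (U s).ι := rfl
  rw [h5]
  exact (MorphismProperty.cancel_left_of_respectsIso (P := Ega2.QuasiAffine.QAff.{u}) _ _).mpr h4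

/-- **Clause (4)**. -/
theorem isQuasiAffine {S : Scheme.{u}} (G : Over S) [GrpObj G]
    [Smooth G.hom] [QuasiCompact G.hom] [IsSeparated G.hom]
    (hconn : ∀ s : S, _root_.IsConnected (G.hom.base ⁻¹' {s})) (hu : SGA3x.UnipotentRankZero G)
    (hmax : SGA3x.HasMaxTorusEtaleLocally G) : Mor2.IsQuasiAffine G.hom := by
  obtain ⟨S', f, hf, hsurj, T, _, i, hi⟩ := hmax
  have h1 : Smooth (Red.bc f G).hom := inferInstanceAs (Smooth (pullback.snd G.hom f))
  have h2 : QuasiCompact (Red.bc f G).hom := inferInstanceAs (QuasiCompact (pullback.snd G.hom f))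
  have h3 : IsSeparated (Red.bc f G).hom := inferInstanceAs (IsSeparated (pullback.snd G.hom f))
  have hi1 : IsMonHom i := hi.1
  have hi2 : Mono i := hi.2.1
  have hself : SelfC i := SelfCFib.selfC_of_geomFibre i hi.2.2.1 fun s' =>
    H832.SelfCent.selfC_geomFibre f hu hi s'
  have hconn' : ∀ s' : S', _root_.IsConnected ((Red.bc f G).hom.base ⁻¹' {s'}) :=
    fun s' => H819.CentKer.isConnected_bc f G hconn s'
  have h4 : Mor2.IsQuasiAffine (Red.bc f G).hom :=
    isQuasiAffine_of_selfC hconn' i hi.2.2.1 hself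
  have := Desc.QAffDesc.isQuasiAffine_descendsAlong.{u}
  have h5 : MorphismProperty.DescendsAlong Ega2.QuasiAffine.QAff.{u}
      (@Surjective ⊓ @Flat ⊓ @QuasiCompact) := Desc.QAffDesc.isQuasiAffine_descendsAlong.{u}
  exact MorphismProperty.of_pullback_snd_of_descendsAlong (P := Ega2.QuasiAffine.QAff.{u})
    (Q := @Surjective ⊓ @Flat ⊓ @LocallyOfFinitePresentation) (f := G.hom) (g := f)
    ⟨⟨inferInstance, inferInstance⟩, inferInstance⟩ h4

end Groth.Agent.Sga3.H804.QaFinal
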