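import Groth.Agent.Sga3.H804.MtMain
import Groth.Agent.Sga3.H804.CartanC2
import Groth.Agent.Sga3.H804.QaFinal
import Groth.Agent.S3025

/-!
# Assembly of S4124 from the torus criterion and the representability of the functor of maximal tori
-/

set_option autoImplicit false

universe u

open CategoryTheory MonoidalCategory CartesianMonoidalCategory MonObj GrpObj AlgebraicGeometry Limits

namespace Groth.Agent.Sga3.H804.Asm

/-- Clause (3) of S4124, given the torus étale locally. -/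
def RTProp : Prop := ∀ {S : Scheme.{u}} (G : Over S) [GrpObj G] [Smooth G.hom] [QuasiCompact G.hom]
  [IsSeparated G.hom] (_ : Sga3B.AffDvrGrp789.AffFib G.hom)
  (_ : ∀ s : S, _root_.IsConnected (G.hom.base ⁻¹' {s})) (_ : SGA3x.UnipotentRankZero G)
  (_ : SGA3x.HasMaxTorusEtaleLocally G),
  ∃ (𝒯 : Over S) (Tu : Over 𝒯.left) (_ : GrpObj Tu) (iu : Tu ⟶ Red.bc 𝒯.hom G),
    SGA3x.RepresentsMaxTori G 𝒯 Tu iu ∧ Smooth 𝒯.hom ∧ IsAffineHom 𝒯.hom

theorem s4124_of (hTC : MtNbhd.TorusCrit.{u}) (hRT : RTProp.{u}) (S : Scheme.{u}) (G : Over S)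
    [GrpObj G] [Smooth G.hom] [QuasiCompact G.hom]
    (haff : ∀ s : S, IsAffine (pullback G.hom (S.fromSpecResidueField s)))
    (hconn : ∀ s : S, _root_.IsConnected (G.hom.base ⁻¹' {s})) (hu : SGA3x.UnipotentRankZero G) :
    SGA3x.HasMaxTorusEtaleLocally G ∧
    (∀ (T : Over S) [GrpObj T] (i : T ⟶ G), Red.IsMaximalTorus i → SGA3x.IsCartan i) ∧
    (∃ (𝒯 : Over S) (Tu : Over 𝒯.left) (_ : GrpObj Tu) (iu : Tu ⟶ Red.bc 𝒯.hom G),
      SGA3x.RepresentsMaxTori G 𝒯 Tu iu ∧ Smooth 𝒯.hom ∧ IsAffineHom 𝒯.hom) ∧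
    Mor2.IsQuasiAffine G.hom ∧
    (IsLocallyNoetherian S → topologicalKrullDim ↥S ≤ 1 → IsAffineHom G.hom) := by
  have hsep : IsSeparated G.hom := (Groth.Agent.S3025.result S G hconn).1
  have haff' : Sga3B.AffDvrGrp789.AffFib G.hom := DimOne.affFib_of_fibres G.hom haff
  have h1 := MtMain.hasMaxTorusEtaleLocally hTC G haff' hu
  exact ⟨h1, fun T _ i hi => CartanC2.isCartan_of_isMaximalTorus G hu T i hi,
    hRT G haff' hconn hu h1, QaFinal.isQuasiAffine G hconn hu h1,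
    fun _ hdim => DimOne.isAffineHom_of_dim_le_one hdim G haff hconn⟩

end Groth.Agent.Sga3.H804.Asm
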