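import Groth.Agent.Sga3.H804.RtMain
import Groth.Agent.Sga3.H832.RTLoc

/-!
# The local quotients needed for S4124
-/

set_option autoImplicit false

universe u

open CategoryTheory MonoidalCategory CartesianMonoidalCategory MonObj GrpObj AlgebraicGeometry Limits

namespace Groth.Agent.Sga3.H804.FinQ

open Groth.Agent.Sga3B Groth.Agent.Sga3B.MaxTorBc636 Groth.Agent.Sga3.H832.VT
open Groth.Agent.Redsub.H649.ConjPts

/-- `EQ` only depends on the subgroup. -/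
lemma eQ_of_iso {S : Scheme.{u}} {G T T' M : Over S} [GrpObj G] {i : T ⟶ G} {i' : T' ⟶ G} {q : G ⟶ M}
    (a : T ⟶ T') (b : T' ⟶ T) (ha : a ≫ i' = i) (hb : b ≫ i = i')
    (h : H813.RepCrit.EQ i' q) : H813.RepCrit.EQ i q := by
  have key : ∀ {X : Over S} (c d : X ⟶ G), InC i c d ↔ InC i' c d := by
    intro X c d
    constructor
    · rintro ⟨x, hx⟩
      exact ⟨x ≫ a, by rw [Category.assoc, ha, hx]⟩
    · rintro ⟨x, hx⟩
      exact ⟨x ≫ b, by rw [Category.assoc, hb, hx]⟩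
  intro X a' b'
  rw [h X a' b']
  simp only [key]

lemma eQ_of_grpIso {S : Scheme.{u}} {G T T' M : Over S} [GrpObj G] [GrpObj T] [GrpObj T'] {i : T ⟶ G} {i' : T' ⟶ G}
    {q : G ⟶ M} (E : Grp.mk T ≅ Grp.mk T') (hE : E.hom.hom.hom ≫ i' = i) (h : H813.RepCrit.EQ i' q) :
    H813.RepCrit.EQ i q := by
  have h2 : E.inv.hom.hom ≫ E.hom.hom.hom = 𝟙 _ := congrArg (fun k => k.hom.hom) E.inv_hom_id
  exact eQ_of_iso _ E.inv.hom.hom hE (by rw [← hE, ← Category.assoc, h2, Category.id_comp]) h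

theorem qLoc : RtMain.QLoc.{u} := by
  intro R _ m _ _ Q _ _ _ _ ρ _ _ r τ _ _ hself s
  have hT : Red.IsTorus (Red.DS (Spec (CommRingCat.of R)) (Fin r → ℤ)) := Trans894.isTorus_DS _ _
  obtain ⟨B, _, φ, he, hs, 𝒯, q, hq⟩ :=
    H832.RTLoc.exists_local ρ τ (H832.SelfCent.isMaximalTorus_of_selfC hT hself) s
  have h1 := hq.eQ (H832.RTLoc.selfC_up φ hself)
  have h2 := iso_up φ τ
  exact ⟨_, sp0 φ, he, hs, 𝒯, q, hq.smooth, hq.isAffineHom, hq.smooth_q, hq.surjective_q, eQ_of_grpIso _ h2 h1⟩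

end Groth.Agent.Sga3.H804.FinQ
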