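import Mathlib.RingTheory.Spectrum.Prime.Topology
import Mathlib.RingTheory.Noetherian.Basic
import Mathlib.RingTheory.FiniteType
import Mathlib.RingTheory.Ideal.MinimalPrime.Noetherian
import Mathlib.RingTheory.Localization.Ideal

/-!
# Points of a filtered colimit landing in an ind-constructible set

`R₀ → R` with `R₀` noetherian, `E` an ind-constructible subset of `Spec R₀` containing the image of
`Spec R`. There is a finitely generated `R₀`-subalgebra `R₁` of `R` such that `E` contains the image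
of `Spec R₁`.
-/

set_option autoImplicit false
universe u

namespace Groth.Agent.Sga3.H804.TcStage

open PrimeSpectrum

variable {R₀ R : Type u} [CommRing R₀] [CommRing R] [Algebra R₀ R]

/-- Good for the ideal `I`: all primes of `R₁` (and of larger subalgebras) above `V(I)` land in `E`. -/
def GoodFor (E : Set (PrimeSpectrum R₀)) (s : Finset R) (I : Ideal R₀) : Prop :=
  ∀ (R₁ : Subalgebra R₀ R), (s : Set R) ⊆ R₁ → ∀ q : PrimeSpectrum R₁,
    I ≤ (q.comap (algebraMap R₀ R₁)).asIdeal → q.comap (algebraMap R₀ R₁) ∈ E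

theorem exists_goodFor [IsNoetherianRing R₀] (E : Set (PrimeSpectrum R₀))
    (hR : ∀ x : PrimeSpectrum R, x.comap (algebraMap R₀ R) ∈ E)
    (hE : ∀ t ∈ E, ∃ f ∉ t.asIdeal, ∀ t' : PrimeSpectrum R₀, t.asIdeal ≤ t'.asIdeal →
      f ∉ t'.asIdeal → t' ∈ E) (I : Ideal R₀) : ∃ s : Finset R, GoodFor E s I := by
  classical
  have hwf : WellFoundedGT (Ideal R₀) := inferInstance
  refine hwf.induction (motive := fun I => ∃ s : Finset R, GoodFor E s I) I ?_
  clear I
  intro I IH
  by_cases hI : I.IsPrime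
  · have hp := hI
    by_cases ht : (⟨I, hp⟩ : PrimeSpectrum R₀) ∈ E
    · obtain ⟨f, hf, h⟩ := hE _ ht
      have hlt : I < I ⊔ Ideal.span {f} := by
        refine lt_of_le_of_ne le_sup_left fun h1 => hf ?_
        change f ∈ I
        rw [h1]
        exact Ideal.mem_sup_right (Ideal.mem_span_singleton_self f)
      obtain ⟨s, hs⟩ := IH _ hlt
      refine ⟨s, fun R₁ h1 q hq => ?_⟩
      by_cases hfq : f ∈ (q.comap (algebraMap R₀ R₁)).asIdeal
      · refine hs R₁ h1 q (sup_le hq ?_)
        rwa [Ideal.span_singleton_le_iff_mem]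
      · exact h _ hq hfq
    · -- the fibre over `I` is empty
      have h1 : ∃ f ∉ I, algebraMap R₀ R f ∈ I.map (algebraMap R₀ R) := by
        by_contra hcon
        push Not at hcon
        have hdisj : Disjoint ((I.primeCompl.map (algebraMap R₀ R) : Submonoid R) : Set R)
            (I.map (algebraMap R₀ R)) := by
          rw [Set.disjoint_left]
          rintro _ ⟨f, hf, rfl⟩ h2
          exact hcon f hf h2
        obtain ⟨P, hP, hP1, hP2⟩ := Ideal.exists_le_prime_disjoint _ _ hdisj.symm
        apply ht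
        have h3 := hR ⟨P, hP⟩
        have h4 : (⟨P, hP⟩ : PrimeSpectrum R).comap (algebraMap R₀ R) = ⟨I, hp⟩ := by
          ext x
          change algebraMap R₀ R x ∈ P ↔ x ∈ I
          constructor
          · intro hx
            by_contra hxI
            exact Set.disjoint_left.mp hP2 hx ⟨x, hxI, rfl⟩
          · intro hx
            exact hP1 (Ideal.mem_map_of_mem _ hx)
        rwa [h4] at h3
      obtain ⟨f, hfI, hf⟩ := h1
      obtain ⟨s₁, hs₁⟩ : ∃ s₁ : Finset R, ∀ R₁ : Subalgebra R₀ R, (s₁ : Set R) ⊆ R₁ →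
          algebraMap R₀ R₁ f ∈ I.map (algebraMap R₀ R₁) := by
        rw [Ideal.map, Ideal.span, Submodule.mem_span_image_iff_exists_fun] at hf
        obtain ⟨t, ht, c, hc⟩ := hf
        refine ⟨Finset.univ.image c, fun R₁ h1 => ?_⟩
        have h2 : algebraMap R₀ R₁ f = ∑ i : t, (⟨c i, h1 (by simp)⟩ : R₁) * algebraMap R₀ R₁ i := by
          apply Subtype.val_injective
          rw [← Subalgebra.coe_val, map_sum]
          change algebraMap R₀ R f = _
          rw [← hc]
          rfl
        rw [h2]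
        exact Submodule.sum_mem _ fun i _ => Ideal.mul_mem_left _ _
          (Ideal.mem_map_of_mem _ (ht i.2))
      have hlt : I < I ⊔ Ideal.span {f} := by
        refine lt_of_le_of_ne le_sup_left fun h1 => hfI ?_
        rw [h1]
        exact Ideal.mem_sup_right (Ideal.mem_span_singleton_self f)
      obtain ⟨s, hs⟩ := IH _ hlt
      refine ⟨s ∪ s₁, fun R₁ h1 q hq => ?_⟩
      have h2 : (s : Set R) ⊆ R₁ := fun x hx => h1 (by simp only [Finset.coe_union]; exact Or.inl hx)
      have h3 : (s₁ : Set R) ⊆ R₁ := fun x hx => h1 (by simp only [Finset.coe_union]; exact Or.inr hx)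
      refine hs R₁ h2 q (sup_le hq ?_)
      rw [Ideal.span_singleton_le_iff_mem]
      change algebraMap R₀ R₁ f ∈ q.asIdeal
      exact (Ideal.map_le_iff_le_comap.mpr hq) (hs₁ R₁ h3)
  · -- not prime: finitely many minimal primes, all strictly larger
    have hfin : I.minimalPrimes.Finite := I.finite_minimalPrimes_of_isNoetherianRing R₀
    have hlt : ∀ P ∈ I.minimalPrimes, I < P := by
      intro P hP
      refine lt_of_le_of_ne hP.1.2 fun h => hI ?_
      rw [h]
      exact hP.1.1
    choose s hs using fun P : I.minimalPrimes => IH P.1 (hlt P.1 P.2)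
    have := hfin.fintype
    refine ⟨Finset.univ.biUnion s, fun R₁ h1 q hq => ?_⟩
    obtain ⟨P, hP1, hP2⟩ := Ideal.exists_minimalPrimes_le hq
    refine hs ⟨P, hP1⟩ R₁ (fun x hx => h1 ?_) q hP2
    simp only [Finset.coe_biUnion, Finset.coe_univ, Set.mem_univ, Set.iUnion_true, Set.mem_iUnion]
    exact ⟨_, hx⟩

/-- **The stage theorem.** -/
theorem exists_stage [IsNoetherianRing R₀] (E : Set (PrimeSpectrum R₀))
    (hR : ∀ x : PrimeSpectrum R, x.comap (algebraMap R₀ R) ∈ E)
    (hE : ∀ t ∈ E, ∃ f ∉ t.asIdeal, ∀ t' : PrimeSpectrum R₀, t.asIdeal ≤ t'.asIdeal →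
      f ∉ t'.asIdeal → t' ∈ E) :
    ∃ R₁ : Subalgebra R₀ R, R₁.FG ∧ ∀ q : PrimeSpectrum R₁, q.comap (algebraMap R₀ R₁) ∈ E := by
  obtain ⟨s, hs⟩ := exists_goodFor E hR hE ⊥
  exact ⟨Algebra.adjoin R₀ (s : Set R), Subalgebra.fg_adjoin_finset s,
    fun q => hs _ Algebra.subset_adjoin q bot_le⟩

end Groth.Agent.Sga3.H804.TcStage
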