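import Groth.Agent.Sga3.H804.FamAff
import Groth.Agent.Sga3B.AffDvrBase789
import Groth.Agent.VarietyB.KrullAkizuki
import Groth.Agent.Sga3C.GrpIrr
import Mathlib.Topology.KrullDimension
import Mathlib.RingTheory.Spectrum.Prime.Topology
import Mathlib.RingTheory.KrullDimension.Zero

/-!
# Smooth group schemes with affine connected fibres over a base of dimension at most one

`isAffineHom_of_dim_le_one`: a smooth quasi-compact group scheme with affine connected fibres over a
locally noetherian scheme of dimension at most one is affine.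
-/

set_option autoImplicit false
universe u
open CategoryTheory CategoryTheory.Limits AlgebraicGeometry

namespace Groth.Agent.Sga3.H804.DimOne

open Groth.Agent.Sga3B.AffDvrGrp789 Groth.Agent.Sga3B.AffDvrBase789

/-- All field-valued base changes are affine if the fibres are. -/
theorem affFib_of_fibres {X S : Scheme.{u}} (f : X ⟶ S)
    (h : ∀ s : S, IsAffine (pullback f (S.fromSpecResidueField s))) : AffFib f := by
  intro F _ t
  obtain ⟨s, q, hq⟩ : ∃ (s : S) (q : Spec (CommRingCat.of F) ⟶ Spec (S.residueField s)),
      q ≫ S.fromSpecResidueField s = t := by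
    refine ⟨t (IsLocalRing.closedPoint F), Spec.map (Scheme.descResidueField
      (Scheme.stalkClosedPointTo t)), ?_⟩
    exact Scheme.descResidueField_stalkClosedPointTo_fromSpecResidueField F S t
  have h1 : IsPullback (pullback.fst (pullback.snd f (S.fromSpecResidueField s)) q ≫
      pullback.fst f (S.fromSpecResidueField s)) (pullback.snd (pullback.snd f _) q) f
      (q ≫ S.fromSpecResidueField s) :=
    (IsPullback.of_hasPullback _ q).paste_horiz (IsPullback.of_hasPullback f _)
  rw [hq] at h1
  have := h s
  have h2 : IsAffineHom (pullback.snd f (S.fromSpecResidueField s)) := inferInstance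
  have h3 : IsAffine (pullback (pullback.snd f (S.fromSpecResidueField s)) q) :=
    isAffine_of_isAffineHom (pullback.snd (pullback.snd f (S.fromSpecResidueField s)) q)
  exact .of_isIso h1.isoPullback.inv

/-- The normalization of a noetherian domain of dimension at most one is a Dedekind domain. -/
theorem isDedekindDomain_integralClosure (R : Type u) [CommRing R] [IsDomain R]
    [IsNoetherianRing R] [Ring.KrullDimLE 1 R] :
    IsDedekindDomain (integralClosure R (FractionRing R)) := by
  let A := integralClosure R (FractionRing R)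
  have h1 : IsNoetherianRing A :=
    Groth.Agent.VarietyB.KrullAkizuki.krullAkizuki (R := R) (K := FractionRing R)
      (L := FractionRing R) (A := A) Subtype.val_injective
  have h2 : IsIntegrallyClosed A :=
    integralClosure.isIntegrallyClosedOfFiniteExtension (FractionRing R)
  have h3 : Ring.DimensionLEOne A := by
    have : Ring.DimensionLEOne R :=
      ⟨fun {p} hp hp' => Ideal.isMaximal_of_isPrime_of_ne_bot p hp⟩
    exact Ring.DimensionLEOne.of_isIntegral R A
  exact { h2, h3, h1 with }

/-- The affine case. -/
theorem isAffine_dimOne {R : Type u} [CommRing R] [IsNoetherianRing R] [Ring.KrullDimLE 1 R]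
    (G : Over (Spec (CommRingCat.of R))) [GrpObj G] [Smooth G.hom] [QuasiCompact G.hom]
    [GeometricallyIrreducible G.hom] (hG : AffFib G.hom) : IsAffine G.left := by
  let ι : Type u := minimalPrimes R
  have hfin : Finite ι := minimalPrimes.finite_of_isNoetherianRing R
  have hP : ∀ i : ι, i.1.IsPrime := fun i => Ideal.IsMinimalPrime.isPrime i.2
  have hdom : ∀ i : ι, IsDomain (R ⧸ i.1) := fun i => by
    have := hP i
    infer_instance
  have hdim : ∀ i : ι, Ring.KrullDimLE 1 (R ⧸ i.1) := fun i => by
    rw [Ring.krullDimLE_iff]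
    exact (ringKrullDim_quotient_le i.1).trans (Ring.krullDimLE_iff.mp inferInstance)
  let A : ι → Type u := fun i => integralClosure (R ⧸ i.1) (FractionRing (R ⧸ i.1))
  have hA1 : ∀ i, Algebra.IsIntegral R (A i) := fun i => by
    have h1 : Algebra.IsIntegral R (R ⧸ i.1) := inferInstance
    have h2 : Algebra.IsIntegral (R ⧸ i.1) (A i) := inferInstance
    exact Algebra.IsIntegral.trans (R ⧸ i.1)
  refine Groth.Agent.Sga3.H804.FamAff.isAffine_of_family A (fun p => ?_) G.hom fun i => ?_
  · obtain ⟨P, hP1, hP2⟩ := Ideal.exists_minimalPrimes_le (I := ⊥) (J := p.asIdeal) bot_le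
    let i : ι := ⟨P, hP1⟩
    refine ⟨i, ?_⟩
    have h1 : p ∈ Set.range (PrimeSpectrum.comap (Ideal.Quotient.mk P)) := by
      rw [range_comap_of_surjective _ _ Ideal.Quotient.mk_surjective]
      rw [Ideal.mk_ker]
      exact hP2
    obtain ⟨q, rfl⟩ := h1
    have h2 : Function.Injective (algebraMap (R ⧸ i.1) (A i)) := by
      have := hdom i
      exact FaithfulSMul.algebraMap_injective _ _
    have h3 : Algebra.IsIntegral (R ⧸ i.1) (A i) := inferInstance
    obtain ⟨Q, hQ1, hQ2⟩ := Ideal.exists_ideal_over_prime_of_isIntegral_of_isDomain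
      (R := R ⧸ i.1) (S := A i) q.asIdeal (by
        rw [(RingHom.injective_iff_ker_eq_bot _).mp h2]; exact bot_le)
    refine ⟨⟨Q, hQ1⟩, ?_⟩
    ext x
    change x ∈ Q.comap (algebraMap R (A i)) ↔ x ∈ q.asIdeal.comap (Ideal.Quotient.mk P)
    rw [← hQ2]
    rfl
  · have := hdom i
    have := hdim i
    have hD : IsDedekindDomain (A i) := isDedekindDomain_integralClosure (R ⧸ i.1)
    let t := Spec.map (CommRingCat.ofHom (algebraMap R (A i)))
    have := smooth_bc t G
    have := quasiCompact_bc t G
    have := geometricallyIrreducible_bc t G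
    exact isAffine_dedekind (Red.bc t G) (affFib_bc t G hG)

/-- **Smooth quasi-compact group schemes with affine connected fibres over a locally noetherian
scheme of dimension at most one are affine.** -/
theorem isAffineHom_of_dim_le_one {S : Scheme.{u}} [IsLocallyNoetherian S]
    (hdim : topologicalKrullDim ↥S ≤ 1) (G : Over S) [GrpObj G] [Smooth G.hom]
    [QuasiCompact G.hom] (haff : ∀ s : S, IsAffine (pullback G.hom (S.fromSpecResidueField s)))
    (hconn : ∀ s : S, _root_.IsConnected (G.hom.base ⁻¹' {s})) : IsAffineHom G.hom := by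
  have hgi : GeometricallyIrreducible G.hom :=
    @Groth.Agent.Sga3C.GrpIrr.geometricallyIrreducible_of_connected_fibres _ _ G.hom _
      (inferInstanceAs (GrpObj G)) hconn
  have hfib := affFib_of_fibres G.hom haff
  refine IsZariskiLocalAtTarget.of_openCover (P := @IsAffineHom) S.affineCover fun i => ?_
  have hU : IsAffine (S.affineCover.X i) := inferInstance
  let R : CommRingCat.{u} := Γ(S.affineCover.X i, ⊤)
  let q : Spec R ⟶ S := (S.affineCover.X i).isoSpec.inv ≫ S.affineCover.f i
  have hq : IsOpenImmersion q := inferInstance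
  have hN : IsLocallyNoetherian (Spec R) := isLocallyNoetherian_of_isOpenImmersion q
  have hN' : IsNoetherianRing (R : Type u) :=
    (isLocallyNoetherian_Spec (R := CommRingCat.of (R : Type u))).mp hN
  have hdim' : topologicalKrullDim (Spec R) ≤ 1 :=
    q.isOpenEmbedding.isInducing.topologicalKrullDim_le.trans hdim
  have hdim2 : Ring.KrullDimLE 1 R := by
    rw [Ring.krullDimLE_iff, ← PrimeSpectrum.topologicalKrullDim_eq_ringKrullDim]
    exact hdim'
  have := smooth_bc q G
  have := quasiCompact_bc q G
  have := geometricallyIrreducible_bc q G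
  have h1 : IsAffine (Red.bc q G).left := 
    @isAffine_dimOne (R : Type u) _ hN' hdim2 (Red.bc q G) _ _ _ _ (affFib_bc q G hfib)
  have h2 : IsAffine (pullback G.hom q) := h1
  have h3 : IsPullback (pullback.fst G.hom (S.affineCover.f i))
      (pullback.snd G.hom (S.affineCover.f i) ≫ (S.affineCover.X i).isoSpec.hom) G.hom q :=
    IsPullback.of_iso (IsPullback.of_hasPullback G.hom (S.affineCover.f i)) (Iso.refl _)
      (Iso.refl _) (S.affineCover.X i).isoSpec (Iso.refl _) (by simp) (by simp) (by simp)
      (by simp [q])
  have h4 : IsAffine (pullback G.hom (S.affineCover.f i)) :=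
    .of_isIso h3.isoPullback.hom
  change IsAffineHom (pullback.snd G.hom (S.affineCover.f i))
  infer_instance

end Groth.Agent.Sga3.H804.DimOne
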