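import Mathlib.AlgebraicGeometry.Morphisms.FlatDescent
import Mathlib.AlgebraicGeometry.Morphisms.Smooth
import Mathlib.AlgebraicGeometry.Morphisms.Etale
import Mathlib.AlgebraicGeometry.Limits

/-!
# Descent along jointly surjective families of étale morphisms
-/

set_option autoImplicit false

universe u

open CategoryTheory Limits AlgebraicGeometry MorphismProperty

namespace Groth.Agent.Sga3.H804.EtFam

/-- **Descent along a jointly surjective family of étale morphisms.** -/
theorem of_etale_family {P : MorphismProperty Scheme.{u}} [IsZariskiLocalAtTarget P]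
    [P.DescendsAlong (@Surjective ⊓ @Flat ⊓ @LocallyOfFinitePresentation)] {J : Type u}
    {X S : Scheme.{u}} (f : X ⟶ S) (V : J → Scheme.{u}) (v : ∀ j, V j ⟶ S) (hv : ∀ j, Etale (v j))
    (hs : ∀ s : S, ∃ j, s ∈ Set.range (v j))
    {X' : J → Scheme.{u}} {a : ∀ j, X' j ⟶ X} {b : ∀ j, X' j ⟶ V j}
    (H : ∀ j, IsPullback (a j) (b j) f (v j)) (hb : ∀ j, P (b j)) : P f := by
  let q : (∐ V) ⟶ S := Sigma.desc v
  have hq0 : Etale q := IsZariskiLocalAtSource.sigmaDesc (P := @Etale) hv
  have hq1 : Surjective q := ⟨fun y ↦ by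
    obtain ⟨i, x, hx⟩ := hs y
    refine ⟨Sigma.ι V i x, ?_⟩
    rw [← Scheme.Hom.comp_apply, Sigma.ι_desc]
    exact hx⟩
  refine MorphismProperty.of_pullback_snd_of_descendsAlong (P := P)
    (Q := @Surjective ⊓ @Flat ⊓ @LocallyOfFinitePresentation) (g := q)
    ⟨⟨hq1, inferInstance⟩, inferInstance⟩ ?_
  rw [IsZariskiLocalAtTarget.iff_of_openCover (P := P) (sigmaOpenCover V)]
  intro i
  have h1 : IsPullback (pullback.fst (pullback.snd f q) ((sigmaOpenCover V).f i) ≫
      pullback.fst f q) (pullback.snd (pullback.snd f q) ((sigmaOpenCover V).f i)) f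
      ((sigmaOpenCover V).f i ≫ q) :=
    (IsPullback.of_hasPullback _ _).paste_horiz (IsPullback.of_hasPullback f q)
  have : (sigmaOpenCover V).f i ≫ q = v i := Sigma.ι_desc _ _
  rw [this] at h1
  have h2 : (h1.isoIsPullback _ _ (H i)).hom ≫ b i =
      (sigmaOpenCover V).pullbackHom (pullback.snd f q) i := h1.isoIsPullback_hom_snd _ _ (H i)
  rw [← h2]
  exact (P.cancel_left_of_respectsIso (h1.isoIsPullback _ _ (H i)).hom (b i)).mpr (hb i)

/-- Flatness codescends along faithfully flat ring maps. -/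
theorem flat_codescends : RingHom.CodescendsAlong.{u} RingHom.Flat RingHom.FaithfullyFlat := by
  refine RingHom.CodescendsAlong.mk _ RingHom.Flat.respectsIso fun R S T _ _ _ _ _ h h' ↦ ?_
  rw [RingHom.flat_algebraMap_iff] at h' ⊢
  rw [RingHom.faithfullyFlat_algebraMap_iff] at h
  exact Module.Flat.of_flat_tensorProduct R T S

theorem flat_descends : MorphismProperty.DescendsAlong @Flat
    (@Surjective ⊓ @Flat ⊓ @QuasiCompact : MorphismProperty Scheme.{u}) :=
  HasRingHomProperty.descendsAlong_flat flat_codescends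

/-- Flatness descends along jointly surjective families of étale morphisms. -/
theorem flat_of_etale_family {J : Type u} {X S : Scheme.{u}} (f : X ⟶ S) (V : J → Scheme.{u})
    (v : ∀ j, V j ⟶ S) (hv : ∀ j, Etale (v j)) (hs : ∀ s : S, ∃ j, s ∈ Set.range (v j))
    {X' : J → Scheme.{u}} {a : ∀ j, X' j ⟶ X} {b : ∀ j, X' j ⟶ V j}
    (H : ∀ j, IsPullback (a j) (b j) f (v j)) (hb : ∀ j, Flat (b j)) : Flat f := by
  have := flat_descends.{u}
  exact of_etale_family (P := @Flat) f V v hv hs H hb

end Groth.Agent.Sga3.H804.EtFam
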