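import Groth.Agent.S0593
import Mathlib.AlgebraicGeometry.Morphisms.Integral
import Mathlib.AlgebraicGeometry.Limits

/-!
# Affineness from a finite family of integral base changes

If `R → A_i` is a finite family of integral algebras with jointly surjective spectra and
`X ×_R A_i` is affine for all `i` then `X` is affine.
-/

set_option autoImplicit false
universe u
open CategoryTheory CategoryTheory.Limits AlgebraicGeometry

namespace Groth.Agent.Sga3.H804.FamAff

theorem isIntegral_pi {R : Type u} [CommRing R] {ι : Type u} [Finite ι] (A : ι → Type u)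
    [∀ i, CommRing (A i)] [∀ i, Algebra R (A i)] [∀ i, Algebra.IsIntegral R (A i)] :
    Algebra.IsIntegral R (∀ i, A i) := by
  classical
  refine ⟨fun x => ?_⟩
  have := Fintype.ofFinite ι
  choose p hp hp' using fun i => Algebra.IsIntegral.isIntegral (R := R) (x i)
  refine ⟨∏ i, p i, Polynomial.monic_prod_of_monic _ _ fun i _ => hp i, ?_⟩
  ext i
  have h1 : (Polynomial.eval₂ (algebraMap R (∀ i, A i)) x (∏ i, p i)) i =
      Polynomial.eval₂ (algebraMap R (A i)) (x i) (∏ i, p i) := by
    have := Polynomial.hom_eval₂ (∏ i, p i) (algebraMap R (∀ i, A i)) (Pi.evalRingHom A i) x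
    exact this
  rw [h1, Polynomial.eval₂_finsetProd]
  exact Finset.prod_eq_zero (Finset.mem_univ i) (hp' i)

/-- Affineness from a finite, jointly surjective family of integral base changes. -/
theorem isAffine_of_family {R : Type u} [CommRing R] {ι : Type u} [Finite ι] (A : ι → Type u)
    [∀ i, CommRing (A i)] [∀ i, Algebra R (A i)] [∀ i, Algebra.IsIntegral R (A i)]
    (hs : ∀ p : PrimeSpectrum R, ∃ i, p ∈ Set.range (PrimeSpectrum.comap (algebraMap R (A i))))
    {X : Scheme.{u}} (f : X ⟶ Spec (CommRingCat.of R))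
    (h : ∀ i, IsAffine (pullback f (Spec.map (CommRingCat.ofHom (algebraMap R (A i)))))) :
    IsAffine X := by
  let t : Spec (CommRingCat.of (∀ i, A i)) ⟶ Spec (CommRingCat.of R) :=
    Spec.map (CommRingCat.ofHom (algebraMap R (∀ i, A i)))
  have hint : IsIntegralHom t := by
    have := isIntegral_pi (R := R) A
    rw [IsIntegralHom.SpecMap_iff]
    exact algebraMap_isIntegral_iff.mpr this
  let q : ∀ i, Spec (CommRingCat.of (A i)) ⟶ Spec (CommRingCat.of (∀ i, A i)) := fun i =>
    Spec.map (CommRingCat.ofHom (Pi.evalRingHom A i))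
  have hqo : ∀ i, IsOpenImmersion (q i) := fun i => inferInstance
  have hqt : ∀ i, q i ≫ t = Spec.map (CommRingCat.ofHom (algebraMap R (A i))) := fun i => by
    rw [← Spec.map_comp]
    rfl
  have hsurj : Surjective t := by
    refine ⟨fun p => ?_⟩
    obtain ⟨i, q', hq'⟩ := hs p
    refine ⟨q i q', ?_⟩
    rw [← Scheme.Hom.comp_apply, hqt]
    exact hq'
  have hcov : ∀ x : Spec (CommRingCat.of (∀ i, A i)), ∃ i, x ∈ Set.range (q i) := by
    intro x
    have h1 : IsIso (sigmaSpec (fun i => CommRingCat.of (A i))) := inferInstance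
    obtain ⟨y, hy⟩ := (sigmaSpec (fun i => CommRingCat.of (A i))).surjective x
    obtain ⟨i', z', hz'⟩ := (sigmaOpenCover (fun i => Spec (CommRingCat.of (A i)))).exists_eq y
    obtain ⟨i, z, hz⟩ : ∃ (i : ι) (z : Spec (CommRingCat.of (A i))),
        (Sigma.ι (fun i => Spec (CommRingCat.of (A i))) i) z = y := ⟨i', z', hz'⟩
    refine ⟨i, z, ?_⟩
    have h2 : q i = Sigma.ι (fun i => Spec (CommRingCat.of (A i))) i ≫
        sigmaSpec (fun i => CommRingCat.of (A i)) :=
      (ι_sigmaSpec (fun i => CommRingCat.of (A i)) i).symm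
    rw [← hy, ← hz, h2, Scheme.Hom.comp_apply]
  have haff : IsAffineHom (pullback.snd f t) := by
    refine IsZariskiLocalAtTarget.of_openCover (P := @IsAffineHom)
      (Scheme.Cover.mkOfCovers (P := @IsOpenImmersion) ι (fun i => Spec (CommRingCat.of (A i))) q
        (fun x => by obtain ⟨i, z, hz⟩ := hcov x; exact ⟨i, z, hz⟩) hqo) fun i => ?_
    change IsAffineHom (pullback.snd (pullback.snd f t) (q i))
    have h1 : IsPullback (pullback.fst (pullback.snd f t) (q i) ≫ pullback.fst f t)
        (pullback.snd (pullback.snd f t) (q i)) f (q i ≫ t) :=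
      (IsPullback.of_hasPullback (pullback.snd f t) (q i)).paste_horiz
        (IsPullback.of_hasPullback f t)
    rw [hqt] at h1
    have h2 : IsAffine (pullback (pullback.snd f t) (q i)) :=
      @IsAffine.of_isIso _ _ h1.isoPullback.hom _ (h i)
    infer_instance
  have haff' : IsAffine (pullback f t) := isAffine_of_isAffineHom (pullback.snd f t)
  exact Groth.Agent.S0593.result _ _ (pullback.fst f t)

end Groth.Agent.Sga3.H804.FamAff
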