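import Groth.Agent.Sga3B.BcPts
import Groth.Agent.Sga3.H797.InfChart

/-!
# Base change of sections and of centralizers of families of sections
-/

set_option autoImplicit false
universe u
open CategoryTheory MonoidalCategory CartesianMonoidalCategory MonObj GrpObj AlgebraicGeometry Limits

namespace Groth.Agent.Sga3.H804.MtBc

open Groth.Agent.Sga3B.BcPts

variable {S S' : Scheme.{u}} (f : S' ⟶ S)

/-- Base change of sections. -/
noncomputable def secBc (G : Over S) [GrpObj G] :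
    (𝟙_ (Over S) ⟶ G) →* (𝟙_ (Over S') ⟶ Red.bc f G) :=
  (bcMulEquiv f (𝟙_ (Over S')) G).toMonoidHom.comp (H797.InfChart.pre G (toUnit _))

lemma secBc_apply {G : Over S} [GrpObj G] (σ : 𝟙_ (Over S) ⟶ G) :
    secBc f G σ = bcEquiv f (𝟙_ (Over S')) G (toUnit _ ≫ σ) := rfl

lemma toUnit_secBc {G : Over S} [GrpObj G] (σ : 𝟙_ (Over S) ⟶ G) (X : Over S') :
    toUnit X ≫ secBc f G σ = bcEquiv f X G (toUnit _ ≫ σ) := by
  rw [secBc_apply, ← comp_bcEquiv, ← Category.assoc]
  congr 2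

lemma secBc_comp {G H : Over S} [GrpObj G] [GrpObj H] (σ : 𝟙_ (Over S) ⟶ G) (u : G ⟶ H) :
    secBc f G σ ≫ (Over.pullback f).map u = secBc f H (σ ≫ u) := by
  rw [secBc_apply, secBc_apply, ← bcEquiv_comp, Category.assoc]

lemma secBc_fst {G : Over S} [GrpObj G] (σ : 𝟙_ (Over S) ⟶ G) :
    (secBc f G σ).left ≫ pullback.fst G.hom f = f ≫ σ.left := by
  have h1 : (bcEquiv f (𝟙_ (Over S')) G).symm (secBc f G σ) = toUnit _ ≫ σ :=
    Equiv.symm_apply_apply _ _
  have h2 : (bcEquiv f (𝟙_ (Over S')) G).symm (secBc f G σ) =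
      (Over.map f).map (secBc f G σ) ≫ (Over.mapPullbackAdj f).counit.app G :=
    (Over.mapPullbackAdj f).homEquiv_counit _ _ _
  have h3 := congrArg (fun m => Over.Hom.left m) (h2.symm.trans h1)
  have h4 : ((Over.mapPullbackAdj f).counit.app G).left = pullback.fst G.hom f := by
    simp [Over.mapPullbackAdj]
  have h5 : (toUnit ((Over.map f).obj (𝟙_ (Over S')))).left = f := by
    have h6 := Over.w (toUnit ((Over.map f).obj (𝟙_ (Over S'))))
    have h7 : (𝟙_ (Over S)).hom = 𝟙 S := rfl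
    have h8 : ((Over.map f).obj (𝟙_ (Over S'))).hom = 𝟙 S' ≫ f := rfl
    rw [h7, h8] at h6
    exact (Category.comp_id _).symm.trans (h6.trans (Category.id_comp _))
  simp only [Over.comp_left, h4, h5] at h3
  exact h3

variable {Γ : Type*} [Group Γ]

/-- `c` is the centralizer of the family of sections `φ`. -/
def IsCentFin {G C : Over S} [GrpObj G] (φ : Γ →* (𝟙_ (Over S) ⟶ G)) (c : C ⟶ G) : Prop :=
  ∀ (T : Over S) (g : T ⟶ G), (∃ t : T ⟶ C, t ≫ c = g) ↔
    ∀ γ, g * (toUnit T ≫ φ γ) = (toUnit T ≫ φ γ) * g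

/-- Centralizers of families of sections are stable under base change. -/
theorem isCentFin_bc {G C : Over S} [GrpObj G] {φ : Γ →* (𝟙_ (Over S) ⟶ G)} {c : C ⟶ G}
    (h : IsCentFin φ c) : IsCentFin ((secBc f G).comp φ) ((Over.pullback f).map c) := by
  intro X g
  obtain ⟨g', rfl⟩ := (bcEquiv f X G).surjective g
  have h1 := h ((Over.map f).obj X) g'
  constructor
  · rintro ⟨z, hz⟩ γ
    have h2 := h1.mp ⟨(bcEquiv f X C).symm z, by
      rw [← bcEquiv_symm_comp, hz, Equiv.symm_apply_apply]⟩ γ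
    have h3 := congrArg (bcEquiv f X G) h2
    rw [bcEquiv_mul, bcEquiv_mul, ← toUnit_secBc] at h3
    exact h3
  · intro hg
    obtain ⟨t, ht⟩ := h1.mpr (fun γ => by
      apply (bcEquiv f X G).injective
      rw [bcEquiv_mul, bcEquiv_mul, ← toUnit_secBc]
      exact hg γ)
    exact ⟨bcEquiv f X C t, by rw [← bcEquiv_comp, ht]⟩

end Groth.Agent.Sga3.H804.MtBc
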