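import Groth.Agent.Sga3.H797.HomFin
import Groth.Agent.Sga3C.SubGrp

/-!
# The centralizer of a finite group of points of invertible order

`exists_centralizer`: `G` smooth and separated over `S`, `φ : Γ → G(S)` a homomorphism from a finite group
whose order is invertible on `S`.  The centralizer of `φ` in `G` is represented by a closed subgroup
scheme which is smooth over `S`.
-/

set_option autoImplicit false
universe u
open CategoryTheory MonoidalCategory CartesianMonoidalCategory MonObj GrpObj AlgebraicGeometry Limits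

namespace Groth.Agent.Sga3.H804.MtCent

open Groth.Agent.Sga3B.CentRep Groth.Agent.Sga3.H797

variable {S : Scheme.{u}} (G : Over S) [GrpObj G]

/-- The centralizer of a finite group of sections. -/
theorem exists_centralizer [Smooth G.hom] [IsSeparated G.hom]
    {Γ : Type*} [Group Γ] [Finite Γ] (hn : HomFin.Inv (Nat.card Γ) S)
    (φ : Γ →* (𝟙_ (Over S) ⟶ G)) :
    ∃ (C : Over S) (_ : GrpObj C) (c : C ⟶ G), IsMonHom c ∧ IsClosedImmersion c.left ∧
      Smooth C.hom ∧ ∀ (T : Over S) (g : T ⟶ G), (∃ t : T ⟶ C, t ≫ c = g) ↔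
        ∀ γ, g * (toUnit T ≫ φ γ) = (toUnit T ≫ φ γ) * g := by
  obtain ⟨H, υ, hH, hsep, hlfp, -⟩ := HomFin.exists_rep G Γ
  have := hlfp inferInstance
  -- the orbit map
  let Y : Over S := 𝟙_ (Over S)
  let ψ : Γ →* (G ⊗ Y ⟶ G) :=
    (MulAut.conj (fst G Y)).toMonoidHom.comp ((InfChart.pre G (snd G Y)).comp φ)
  have hψ : ∀ γ, ψ γ = fst G Y * (snd G Y ≫ φ γ) * (fst G Y)⁻¹ := fun γ => rfl
  obtain ⟨o₁, ho₁, -⟩ := hH.existsUnique (G ⊗ Y) ψ
  let o : G ⊗ Y ⟶ H ⊗ Y := lift o₁ (snd G Y)
  have hsm : Smooth o.left := by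
    refine HomFin.smooth_orbit hH hn φ o (lift_snd _ _) fun γ => ?_
    change lift o₁ (snd G Y) ≫ fst H Y ≫ υ γ = _
    rw [lift_fst_assoc, ho₁, hψ]
  obtain ⟨t₀, ht₀, -⟩ := hH.existsUnique Y φ
  let σ : Y ⟶ H ⊗ Y := lift t₀ (𝟙 Y)
  have hσ1 : IsSeparated (H ⊗ Y).hom := by
    have h1 : (H ⊗ Y).hom = (snd H Y).left ≫ Y.hom := (Over.w _).symm
    have h2 : IsSeparated (snd H Y).left := by
      rw [Over.snd_left]
      infer_instance
    have h3 : IsSeparated Y.hom := inferInstanceAs (IsSeparated (𝟙 S))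
    rw [h1]
    infer_instance
  have hσ : IsClosedImmersion σ.left := by
    have h0 : IsClosedImmersion (𝟙 S) := IsClosedImmersion.instOfIsIsoScheme _
    have h1 : IsClosedImmersion (σ.left ≫ (H ⊗ Y).hom) := by
      rw [Over.w]; exact h0
    exact IsClosedImmersion.of_comp _ (H ⊗ Y).hom
  -- the centralizer
  let C : Over S := pullback o σ
  let c₀ : C ⟶ G ⊗ Y := pullback.fst o σ
  have H1 := isPullback_left (IsPullback.of_hasPullback o σ)
  have hc₀ : IsClosedImmersion c₀.left := MorphismProperty.of_isPullback H1.flip hσ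
  have hCs : Smooth (pullback.snd o σ).left := MorphismProperty.of_isPullback H1 hsm
  let c : C ⟶ G := c₀ ≫ fst G Y
  have hfst : IsIso (fst G Y).left := by
    have : IsIso (fst G Y) := inferInstanceAs (IsIso (ρ_ G).hom)
    exact inferInstanceAs (IsIso ((Over.forget S).map (fst G Y)))
  have hc : IsClosedImmersion c.left := by
    change IsClosedImmersion (c₀.left ≫ (fst G Y).left)
    infer_instance
  have hmono : Mono c := by
    have : Mono c.left := inferInstance
    exact Over.mono_of_mono_left c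
  have hC : Smooth C.hom := by
    rw [← Over.w (pullback.snd o σ)]
    have : Smooth Y.hom := inferInstanceAs (Smooth (𝟙 S))
    infer_instance
  have key : ∀ (T : Over S) (g : T ⟶ G), (∃ t : T ⟶ C, t ≫ c = g) ↔
        ∀ γ, g * (toUnit T ≫ φ γ) = (toUnit T ≫ φ γ) * g := by
    intro T g
    have h1 : (∃ t : T ⟶ C, t ≫ c = g) ↔ lift g (toUnit T) ≫ o = toUnit T ≫ σ := by
      constructor
      · rintro ⟨t, rfl⟩
        have h2 : lift (t ≫ c) (toUnit T) = t ≫ c₀ := by
          apply CartesianMonoidalCategory.hom_ext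
          · rw [lift_fst, Category.assoc]
          · rw [lift_snd]
            exact toUnit_unique _ _
        rw [h2, Category.assoc, pullback.condition, ← Category.assoc]
        congr 1
        exact toUnit_unique _ _
      · intro h
        refine ⟨pullback.lift _ _ h, ?_⟩
        change pullback.lift _ _ h ≫ pullback.fst o σ ≫ fst G Y = g
        rw [pullback.lift_fst_assoc, lift_fst]
    rw [h1]
    have h3 : (lift g (toUnit T) ≫ o = toUnit T ≫ σ) ↔ lift g (toUnit T) ≫ o₁ = toUnit T ≫ t₀ := by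
      constructor
      · intro h
        have := h =≫ fst H Y
        simpa only [o, σ, Category.assoc, lift_fst] using this
      · intro h
        apply CartesianMonoidalCategory.hom_ext
        · simpa only [o, σ, Category.assoc, lift_fst] using h
        · exact toUnit_unique _ _
    rw [h3]
    let ψ₁ : Γ →* (T ⟶ G) := (InfChart.pre G (lift g (toUnit T))).comp ψ
    have h4 : ∀ γ, ψ₁ γ = g * (toUnit T ≫ φ γ) * g⁻¹ := fun γ => by
      change lift g (toUnit T) ≫ ψ γ = _
      rw [hψ, MonObj.comp_mul, MonObj.comp_mul, GrpObj.comp_inv, lift_fst, lift_snd_assoc]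
    let ψ₂ : Γ →* (T ⟶ G) := (InfChart.pre G (toUnit T)).comp φ
    have h5 : ∀ γ, ψ₂ γ = toUnit T ≫ φ γ := fun γ => rfl
    have h6 : ∀ γ, (lift g (toUnit T) ≫ o₁) ≫ υ γ = ψ₁ γ := fun γ => by
      rw [Category.assoc, ho₁]
      rfl
    have h7 : ∀ γ, (toUnit T ≫ t₀) ≫ υ γ = ψ₂ γ := fun γ => by
      rw [Category.assoc, ht₀]
      rfl
    constructor
    · intro h γ
      have h8 : ψ₁ γ = ψ₂ γ := by rw [← h6, h, h7]
      rw [h4, h5] at h8
      exact mul_inv_eq_iff_eq_mul.mp h8
    · intro h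
      refine (hH.existsUnique T ψ₁).unique h6 fun γ => ?_
      rw [h7, h4, h5]
      exact (mul_inv_eq_iff_eq_mul.mpr (h γ)).symm
  obtain ⟨gC, hcm⟩ : ∃ _ : GrpObj C, IsMonHom c := by
    apply Sga3C.SubGrp.exists_grpObj_of_mono
    · have h1 : (c ⊗ₘ c) ≫ μ[G] = (fst C C ≫ c) * (snd C C ≫ c) := by
        rw [Hom.mul_def]
        congr 1
      obtain ⟨m, hm⟩ := (key (C ⊗ C) ((c ⊗ₘ c) ≫ μ[G])).mpr (fun γ => by
        have h2 := (key (C ⊗ C) (fst C C ≫ c)).mp ⟨fst C C, rfl⟩ γ
        have h3 := (key (C ⊗ C) (snd C C ≫ c)).mp ⟨snd C C, rfl⟩ γ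
        rw [h1, _root_.mul_assoc, h3, ← _root_.mul_assoc, h2, _root_.mul_assoc])
      exact ⟨m, hm⟩
    · exact (key _ η).mpr (fun γ => by
        rw [one_eq_one, _root_.one_mul, _root_.mul_one])
    · have h1 : c ≫ ι[G] = c⁻¹ := (Hom.inv_def _).symm
      exact (key C (c ≫ ι[G])).mpr (fun γ => by
        have h2 := (key C c).mp ⟨𝟙 C, Category.id_comp c⟩ γ
        rw [h1, inv_mul_eq_iff_eq_mul, ← _root_.mul_assoc, h2, _root_.mul_assoc, mul_inv_cancel,
          _root_.mul_one])
  exact ⟨C, gC, c, hcm, hc, hC, key⟩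

end Groth.Agent.Sga3.H804.MtCent
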