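import Groth.Agent.Sga3.H795.MaxTorDim
import Groth.Agent.Sga3B.RG.ConjTori
import Groth.Agent.Sga3B.RG.UnipRoot
import Mathlib.RingTheory.RootsOfUnity.Basic

/-!
# Connected groups over an algebraically closed field with many central torsion points

* `eq_one_of_isUnip`: unipotent points of order invertible in the base field are trivial;
* `mem_of_central`: central points of invertible order belong to every maximal torus of a connected group;
* `isTorus_of_central_torsion`: a smooth connected affine group of dimension at most `r` with a central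
  subgroup `(ℤ/n)^r`, `n ≥ 2` invertible, is a torus.
-/

set_option autoImplicit false

universe u

open CategoryTheory MonoidalCategory CartesianMonoidalCategory MonObj GrpObj AlgebraicGeometry
open Groth.Agent.Books.AffBridge Groth.Agent.Books.AffBridge2
open TensorProduct Coalgebra

namespace Groth.Agent.Sga3.H804.MtField

open Groth.Agent.Sga3B Groth.Agent.Sga3B.RG Groth.Agent.Sga3B.RG.BrPts
  Groth.Agent.Sga3B.RG.BrTorus Groth.Agent.Sga3B.RG.BrHc Groth.Agent.Sga3.H795
  Groth.Agent.Sga3.H795.MaxTorDim

noncomputable section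

section Lin

open Polynomial

variable {K : Type*} [Field K] {V : Type*} [AddCommGroup V] [Module K V]

/-- An operator of invertible finite order which is unipotent at a vector fixes it. -/
lemma apply_eq_self {f : V →ₗ[K] V} {n : ℕ} (hn : (n : K) ≠ 0) (hf : f ^ n = 1) {v : V} {k : ℕ}
    (hk : ((f - 1) ^ k) v = 0) : f v = v := by
  -- `X ^ n - 1 = (X - 1) * q` with `q(1) = n`
  let q : K[X] := ∑ i ∈ Finset.range n, X ^ i
  have hq : q * (X - 1) = X ^ n - 1 := geom_sum_mul X n
  have hq1 : q.eval 1 = n := by simp [q, Polynomial.eval_finsetSum]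
  have hcop : IsCoprime ((X - 1 : K[X]) ^ k) q := by
    refine IsCoprime.pow_left ?_
    have h1 : (X - 1 : K[X]) = X - C 1 := by rw [C_1]
    rw [h1]
    refine (Polynomial.irreducible_X_sub_C (1 : K)).coprime_iff_not_dvd.mpr ?_
    rw [Polynomial.dvd_iff_isRoot, Polynomial.IsRoot, hq1]
    exact hn
  obtain ⟨a, b, hab⟩ := hcop
  have h2 : aeval f q ((f - 1) v) = 0 := by
    have h3 : aeval f (q * (X - 1)) v = 0 := by
      rw [hq, map_sub, map_pow, aeval_X, map_one, hf, sub_self]
      rfl
    rw [map_mul, Module.End.mul_apply, map_sub, aeval_X, map_one] at h3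
    exact h3
  have h4 : aeval f ((X - 1 : K[X]) ^ k) ((f - 1) v) = 0 := by
    rw [map_pow, map_sub, aeval_X, map_one, ← Module.End.mul_apply, ← pow_succ, pow_succ',
      Module.End.mul_apply, hk, map_zero]
  have h5 := congrArg (fun p => aeval f p ((f - 1) v)) hab
  simp only [map_add, map_mul, map_one, LinearMap.add_apply, Module.End.mul_apply, h2, h4,
    map_zero, add_zero, Module.End.one_apply] at h5
  exact sub_eq_zero.mp h5.symm

end Lin

variable {K : Type u} [Field K]

section

variable {A : Type u} [CommRing A] [HopfAlgebra K A] [IsAlgClosed K] [Algebra.FiniteType K A]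
  [_root_.IsReduced A]

lemma rTr_pow (g : Pt K A) (n : ℕ) : (rTr g).toLinearMap ^ n = (rTr (g ^ n)).toLinearMap := by
  induction n with
  | zero =>
    ext a
    rw [pow_zero, pow_zero]
    exact (rTr_one a).symm
  | succ n ih =>
    ext a
    rw [pow_succ, pow_succ, ih]
    exact (rTr_mul (g ^ n) g a).symm

/-- Unipotent points of invertible order are trivial. -/
theorem eq_one_of_isUnip {g : Pt K A} (hg : IsUnip g) {n : ℕ} (hn : (n : K) ≠ 0)
    (h : g ^ n = 1) : g = 1 := by
  refine pt_eq_one_of_rTr fun a => ?_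
  obtain ⟨k, hk⟩ := hg a
  have h1 : (rTr g).toLinearMap ^ n = 1 := by
    rw [rTr_pow, h]
    ext a
    exact rTr_one a
  exact apply_eq_self hn h1 hk

lemma isUnip_pow {g : Pt K A} (hg : IsUnip g) (n : ℕ) : IsUnip (g ^ n) := by
  induction n with
  | zero => rw [pow_zero]; exact isUnip_one
  | succ n ih =>
    rw [pow_succ]
    exact ih.mul hg (pow_mul_comm' g n)

omit [_root_.IsReduced A] in
/-- Central points of invertible order belong to all maximal tori of a connected group. -/
theorem mem_of_central [IsDomain A] {T : Subgroup (Pt K A)} (hT : IsMaxTorusSub T) {z : Pt K A}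
    (hz : ∀ x, z * x = x * z) {n : ℕ} (hn : (n : K) ≠ 0) (h : z ^ n = 1) : z ∈ T := by
  have hc : z ∈ Subgroup.centralizer (T : Set (Pt K A)) := fun x _ => (hz x).symm
  obtain ⟨s, hs, u, hu, hunip, rfl⟩ := ConjTori.exists_mul_unip_of_mem_centralizer hT hc
  have hsu : Commute s u := hu s hs
  have h1 : s ^ n * u ^ n = 1 := by rw [← hsu.mul_pow]; exact h
  have h2 : u ^ n ∈ T := by
    have : u ^ n = (s ^ n)⁻¹ := by
      rw [eq_inv_iff_mul_eq_one]
      rw [← (hsu.pow_pow n n).eq]
      exact h1
    rw [this]
    exact T.inv_mem (T.pow_mem hs n)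
  obtain ⟨m, π, hπ, rfl⟩ := hT.1
  obtain ⟨x, hx⟩ := h2
  have h3 : x = 1 := eq_one_of_unip π hπ x (by rw [hx]; exact isUnip_pow hunip n)
  have h4 : u ^ n = 1 := by rw [← hx, h3, map_one]
  have h5 : u = 1 := eq_one_of_isUnip hunip hn h4
  rw [h5, _root_.mul_one]
  exact hs

omit [IsAlgClosed K] [Algebra.FiniteType K A] [_root_.IsReduced A] in
/-- The `n`-torsion of a torus of rank `m` has at most `n ^ m` points. -/
theorem rank_le {m r n : ℕ} (hn1 : 1 < n)
    (f : Multiplicative (Fin r → ZMod n) →* Pt K (KZ K m)) (hf : Function.Injective f) : r ≤ m := by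
  have : NeZero n := ⟨by omega⟩
  let g : Multiplicative (Fin r → ZMod n) →* (Multiplicative (Fin m → ℤ) →* Kˣ) :=
    (torPt (K := K) (Multiplicative (Fin m → ℤ))).symm.toMonoidHom.comp f
  have hg : Function.Injective g :=
    (torPt (K := K) (Multiplicative (Fin m → ℤ))).symm.injective.comp hf
  have hpow : ∀ γ : Multiplicative (Fin r → ZMod n), γ ^ n = 1 := by
    intro γ
    apply Multiplicative.toAdd.injective
    change n • (Multiplicative.toAdd γ) = 0
    ext i
    simp
  let h : Multiplicative (Fin r → ZMod n) → (Fin m → rootsOfUnity n K) := fun γ i =>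
    ⟨g γ (Multiplicative.ofAdd (Pi.single i 1)), by
      rw [mem_rootsOfUnity, ← MonoidHom.pow_apply, ← map_pow, hpow, map_one]
      rfl⟩
  have hh : Function.Injective h := by
    intro a b hab
    apply hg
    refine MonoidHom.toAdditive.injective ?_
    refine AddMonoidHom.toIntLinearMap_injective ?_
    refine LinearMap.pi_ext' fun i => ?_
    refine LinearMap.ext_ring ?_
    have h1 := congrArg Subtype.val (congrFun hab i)
    exact h1
  have h1 := Nat.card_le_card_of_injective h hh
  have h2 : Nat.card (Multiplicative (Fin r → ZMod n)) = n ^ r := by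
    rw [Nat.card_congr Multiplicative.toAdd, Nat.card_fun, Nat.card_zmod, Nat.card_fin]
  have h3 : Nat.card (Fin m → rootsOfUnity n K) ≤ n ^ m := by
    rw [Nat.card_fun, Nat.card_fin]
    exact Nat.pow_le_pow_left (card_rootsOfUnity K n) m
  rw [h2] at h1
  exact (Nat.pow_le_pow_iff_right hn1).mp (h1.trans h3)

end

/-- **A smooth connected affine group of dimension at most `r` with `r` independent central
torsion points of order `n ≥ 2` is a torus.** -/
theorem isTorus_of_central_torsion [IsAlgClosed K] (D : Over (Spec (CommRingCat.of K))) [GrpObj D]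
    [IsAffine D.left] [Smooth D.hom] [ConnectedSpace D.left] (r n : ℕ) (hn : (n : K) ≠ 0)
    (hn1 : 1 < n) (hdim : topologicalKrullDim ↥D.left ≤ r)
    (ψ : Multiplicative (Fin r → ZMod n) →* (𝟙_ (Over (Spec (CommRingCat.of K))) ⟶ D))
    (hinj : Function.Injective ψ)
    (hcen : ∀ γ (x : 𝟙_ (Over (Spec (CommRingCat.of K))) ⟶ D), ψ γ * x = x * ψ γ) :
    Red.IsTorus D := by
  obtain ⟨A, _, _, e, he, hft⟩ := exists_hopf_ft D
  have hei : IsIso e.hom.left := inferInstanceAs (IsIso ((Over.forget _).map e.hom))
  have hei' : IsIso e.symm.hom.left := inferInstanceAs (IsIso ((Over.forget _).map e.inv))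
  have hsm : Smooth (SpecOver K A).hom := by
    rw [hom_eq_of_iso e.symm]
    infer_instance
  have hcn : ConnectedSpace (SpecOver K A).left :=
    e.hom.left.surjective.connectedSpace e.hom.left.continuous
  have hdom : IsDomain A := (isDomain_iff A).1 ⟨hsm, hcn⟩
  obtain ⟨T, hT⟩ := exists_isMaxTorusSub K A
  obtain ⟨m, π, hπ, hTπ⟩ := hT.1
  -- the points
  let ev : (𝟙_ (Over (Spec (CommRingCat.of K))) ⟶ D) →* Pt K A :=
    { toFun := fun x => (ptEquiv K A).symm (x ≫ e.hom)
      map_one' := by rw [MonObj.one_comp, map_one]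
      map_mul' := fun x y => by rw [MonObj.mul_comp, map_mul] }
  have hev : Function.Bijective ev := by
    constructor
    · intro x y hxy
      have h1 := (ptEquiv K A).symm.injective hxy
      exact (cancel_mono e.hom).mp h1
    · intro x
      refine ⟨ptEquiv K A x ≫ e.inv, ?_⟩
      change (ptEquiv K A).symm ((ptEquiv K A x ≫ e.inv) ≫ e.hom) = x
      rw [Category.assoc, Iso.inv_hom_id, Category.comp_id, MulEquiv.symm_apply_apply]
  let ψ' : Multiplicative (Fin r → ZMod n) →* Pt K A := ev.comp ψ
  have hψ' : Function.Injective ψ' := hev.1.comp hinj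
  have hpow : ∀ γ : Multiplicative (Fin r → ZMod n), γ ^ n = 1 := by
    intro γ
    apply Multiplicative.toAdd.injective
    change n • (Multiplicative.toAdd γ) = 0
    ext i
    simp
  have hmem : ∀ γ, ψ' γ ∈ T := fun γ => by
    refine mem_of_central hT (fun x => ?_) hn (n := n) ?_
    · obtain ⟨x, rfl⟩ := hev.2 x
      change ev (ψ γ) * ev x = ev x * ev (ψ γ)
      rw [← map_mul, hcen, map_mul]
    · rw [← map_pow, hpow, map_one]
  have hπi : Function.Injective (Pt.map π) := Pt.map_injective hπ
  rw [hTπ] at hmem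
  let f : Multiplicative (Fin r → ZMod n) →* Pt K (KZ K m) :=
    { toFun := fun γ => (hmem γ).choose
      map_one' := hπi (by rw [(hmem 1).choose_spec, map_one, map_one])
      map_mul' := fun a b => hπi (by
        rw [(hmem (a * b)).choose_spec, map_mul, map_mul, (hmem a).choose_spec,
          (hmem b).choose_spec]) }
  have hf : Function.Injective f := by
    intro a b hab
    apply hψ'
    rw [← (hmem a).choose_spec, ← (hmem b).choose_spec]
    exact congrArg (Pt.map π) hab
  have hrm : r ≤ m := rank_le hn1 f hf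
  -- dimensions
  have hdA : ringKrullDim A ≤ m := by
    rw [← topologicalKrullDim_specOver (K := K) A, ← topologicalKrullDim_of_iso e]
    exact hdim.trans (by exact_mod_cast hrm)
  let p : A →+* KZ K m := (π : A →ₐ[K] KZ K m).toRingHom
  have hps : Function.Surjective p := hπ
  have hinj' : Function.Injective p := by
    rw [RingHom.injective_iff_ker_eq_bot]
    by_contra hne
    have : IsDomain (KZ K m) := TorusDim.isDomain K m
    have h1 := NC.ringKrullDim_quotient_succ_le (P := (⊥ : Ideal A)) (Q := RingHom.ker p)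
      (bot_lt_iff_ne_bot.2 hne)
    have h2 : ringKrullDim (A ⧸ (⊥ : Ideal A)) ≤ ringKrullDim A := ringKrullDim_quotient_le _
    have h3 : ringKrullDim (A ⧸ RingHom.ker p) = ringKrullDim (KZ K m) :=
      ringKrullDim_eq_of_ringEquiv (RingHom.quotientKerEquivOfSurjective hps)
    have h4 := (h1.trans h2).trans hdA
    rw [h3] at h4
    change ringKrullDim (TorusDim.KZ K m) + 1 ≤ (m : WithBot ℕ∞) at h4
    rw [TorusDim.ringKrullDim_torus] at h4
    have h5 : m + 1 ≤ m := by exact_mod_cast h4
    omega
  have h6 : IsIso (CommRingCat.ofHom p) := by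
    rw [ConcreteCategory.isIso_iff_bijective]
    exact ⟨hinj', hps⟩
  have h7 : IsIso (specMap K (π : A →ₐ[K] KZ K m)).left := by
    rw [specMap_left]
    change IsIso (Spec.map (CommRingCat.ofHom p))
    infer_instance
  have h7' : IsIso ((Over.forget _).map (specMap K (π : A →ₐ[K] KZ K m))) := h7
  have h8 : IsIso (specMap K (π : A →ₐ[K] KZ K m)) :=
    isIso_of_reflects_iso _ (Over.forget _)
  let j : SpecOver K (KZ K m) ≅ SpecOver K A := asIso (specMap K (π : A →ₐ[K] KZ K m))
  have h9 : IsMonHom j.hom := isMonHom_specMap K π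
  have h10 : IsMonHom j.inv := inferInstance
  exact isTorus_iff.2 ⟨m, e ≪≫ j.symm, inferInstanceAs (IsMonHom (e.hom ≫ j.inv))⟩

end

end Groth.Agent.Sga3.H804.MtField
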