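import Groth.Agent.Sga3.H804.MtBc
import Groth.Agent.Sga3.H804.MtField
import Groth.Agent.Sga3B.AlgBc2
import Groth.Agent.Sga3B.SplitBc264
import Groth.Agent.S3036

/-!
# Centralizers of finite groups over an algebraically closed field

* `isTorus_of_centralizer`: a smooth connected subgroup `D` of dimension at most `r` of the centralizer of
  `(ℤ/n)^r ⊂ D` is a torus;
* `isIso_of_centralizer`: it is a maximal torus if all connected subschemes of the centralizer through the
  unit are contained in `D`.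
-/

set_option autoImplicit false

universe u

open CategoryTheory MonoidalCategory CartesianMonoidalCategory MonObj GrpObj AlgebraicGeometry

namespace Groth.Agent.Sga3.H804.MtFib

open Groth.Agent.Sga3B Groth.Agent.Sga3.H804.MtBc

variable {K : Type u} [Field K] [IsAlgClosed K]

section

variable {G C D : Over (Spec (CommRingCat.of K))} [GrpObj G] [GrpObj C] [GrpObj D]
  (c : C ⟶ G) (j : D ⟶ C) [IsMonHom c] [Mono c] [IsMonHom j] [Mono j] {r n : ℕ}
  (φ : Multiplicative (Fin r → ZMod n) →* (𝟙_ (Over (Spec (CommRingCat.of K))) ⟶ G))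
  (hc : IsCentFin φ c)
  (hψ : ∀ γ, ∃ ψ : 𝟙_ (Over (Spec (CommRingCat.of K))) ⟶ D, ψ ≫ j ≫ c = φ γ)

include hc hψ in
theorem isTorus_of_centralizer [IsAffine G.left] [LocallyOfFiniteType G.hom] [Smooth D.hom]
    [QuasiCompact D.hom] [ConnectedSpace D.left] (hn : (n : K) ≠ 0) (hn1 : 1 < n)
    (hdim : topologicalKrullDim ↥D.left ≤ r) (hinj : Function.Injective φ) : Red.IsTorus D := by
  have hqc : QuasiCompact (j ≫ c).left := by
    have : QuasiCompact ((j ≫ c).left ≫ G.hom) := by rw [Over.w]; infer_instance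
    exact QuasiCompact.of_comp _ G.hom
  have hcl : IsClosedImmersion (j ≫ c).left := Groth.Agent.S3036.result K D G (j ≫ c)
  have haff : IsAffine D.left := isAffine_of_isAffineHom (j ≫ c).left
  choose ψ₀ hψ₀ using hψ
  let ψ : Multiplicative (Fin r → ZMod n) →* (𝟙_ (Over (Spec (CommRingCat.of K))) ⟶ D) :=
    { toFun := ψ₀
      map_one' := by
        rw [← cancel_mono (j ≫ c), hψ₀, map_one, MonObj.one_comp]
      map_mul' := fun a b => by
        rw [← cancel_mono (j ≫ c), hψ₀, map_mul, MonObj.mul_comp, hψ₀, hψ₀] }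
  have hψ1 : ∀ γ, ψ γ ≫ j ≫ c = φ γ := hψ₀
  refine MtField.isTorus_of_central_torsion D r n hn hn1 hdim ψ (fun a b hab => hinj ?_)
    fun γ x => ?_
  · rw [← hψ1, ← hψ1, hab]
  · have h1 := (hc _ (x ≫ j ≫ c)).mp ⟨x ≫ j, by rw [Category.assoc]⟩ γ
    have h2 : toUnit (𝟙_ (Over (Spec (CommRingCat.of K)))) ≫ φ γ = φ γ := by
      rw [toUnit_unique (toUnit (𝟙_ (Over (Spec (CommRingCat.of K))))) (𝟙 _), Category.id_comp]
    rw [h2, ← hψ1, ← MonObj.mul_comp, ← MonObj.mul_comp, cancel_mono] at h1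
    exact h1.symm

include hc hψ in
omit [IsMonHom j] in
theorem isMaxTorOver_of_centralizer
    (hconn : ∀ (X : Over (Spec (CommRingCat.of K))) [ConnectedSpace X.left] (x : X ⟶ C),
      (∃ e : 𝟙_ (Over (Spec (CommRingCat.of K))) ⟶ X, e ≫ x = 1) → ∃ y : X ⟶ D, y ≫ j = x) :
    AlgBc.IsMaxTorOver (j ≫ c) := by
  intro T' _ j' _ _ f hT' hf
  obtain ⟨x, hx⟩ := (hc T' j').mpr fun γ => by
    obtain ⟨ψ, hψ⟩ := hψ γ
    rw [← hψ, ← hf]
    have h1 : toUnit T' ≫ ψ ≫ f ≫ j' = (toUnit T' ≫ ψ ≫ f) ≫ j' := by simp only [Category.assoc]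
    have h2 : j' = 𝟙 T' ≫ j' := (Category.id_comp _).symm
    rw [h1]
    conv_lhs => rw [h2]
    conv_rhs => rw [h2]
    rw [Category.id_comp, ← Category.id_comp j', ← Category.assoc, ← MonObj.mul_comp,
      ← MonObj.mul_comp, SplitBc264.torus_comm hT']
  have hirr : ConnectedSpace T'.left := by
    obtain ⟨m, e, he⟩ := RG.BrTorus.isTorus_iff.1 hT'
    have h3 : ConnectedSpace (Books.AffBridge.SpecOver K (RG.BrTorus.KZ K m)).left := by
      have : IsDomain (RG.BrTorus.KZ K m) := H795.TorusDim.isDomain K m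
      exact inferInstanceAs (ConnectedSpace (PrimeSpectrum (RG.BrTorus.KZ K m)))
    have hei : IsIso e.inv.left := inferInstanceAs (IsIso ((Over.forget _).map e.inv))
    exact e.inv.left.surjective.connectedSpace e.inv.left.continuous
  have hx1 : (1 : 𝟙_ (Over (Spec (CommRingCat.of K))) ⟶ T') ≫ x = 1 := by
    rw [← cancel_mono c, Category.assoc, hx, MonObj.one_comp, MonObj.one_comp]
  obtain ⟨y, hy⟩ := hconn T' x ⟨1, hx1⟩
  refine ⟨y, ?_, ?_⟩
  · rw [← cancel_mono (j ≫ c), Category.assoc, Category.id_comp]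
    rw [← Category.assoc y, hy, hx, hf]
  · rw [← cancel_mono j', Category.assoc, hf, Category.id_comp, ← Category.assoc, hy, hx]

end

end Groth.Agent.Sga3.H804.MtFib
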