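import Groth.Agent.Sga3B.RG.Rigid
import Groth.Agent.Sga3B.RG.BrTorus
import Groth.Agent.Sga3B.RG.BrHc
import Groth.Agent.Sga3.H784.Torsion
import Mathlib.RingTheory.RootsOfUnity.EnoughRootsOfUnity
import Mathlib.RingTheory.RootsOfUnity.AlgebraicallyClosed
import Mathlib.RingTheory.ZMod.UnitsCyclic

/-!
# A finite group of torsion points of a torus with the same centralizer

`exists_torsion_hom`: over an algebraically closed field, for a split torus `T` of rank `r` in an affine
algebraic group `G` there are `n ≥ 2` invertible and an injective homomorphism `(ℤ/n)^r → T(K)` such that a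
rational point of `G` centralizing its image centralizes `T`.
-/

set_option autoImplicit false

universe u

open CategoryTheory MonoidalCategory CartesianMonoidalCategory MonObj GrpObj AlgebraicGeometry
open Groth.Agent.Books.AffBridge Groth.Agent.Books.AffBridge2
open TensorProduct Coalgebra

namespace Groth.Agent.Sga3.H804.MtTors

open Groth.Agent.Sga3B Groth.Agent.Sga3B.RG Groth.Agent.Sga3B.RG.BrPts
  Groth.Agent.Sga3B.RG.BrTorus Groth.Agent.Sga3B.RG.Rigid Groth.Agent.Sga3B.RG.BrDiag

noncomputable section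

variable {K : Type u} [Field K]

section level

variable {A : Type u} [CommRing A] [HopfAlgebra K A] [IsAlgClosed K] [Algebra.FiniteType K A]

/-- The torsion of a sufficiently high level of a torus has the same centralizer as the torus. -/
theorem exists_level {l : ℕ} (hl : l.Prime) (hl0 : (l : K) ≠ 0) {n : ℕ}
    (π : A →ₐc[K] KZ K n) :
    ∃ i₀, ∀ x : Pt K A, (∀ t ∈ torsHom K n (l ^ i₀),
      x * Pt.map π (torPt _ t) = Pt.map π (torPt _ t) * x) →
        ∀ s, x * Pt.map π s = Pt.map π s * x := by
  have hN : IsNoetherianRing A := Algebra.FiniteType.isNoetherianRing K A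
  let X : ℕ → Set (Pt K A) := fun i => (fun t => Pt.map π (torPt _ t)) '' (torsHom K n (l ^ i) : Set _)
  have hX : Monotone X := fun i j hij => Set.image_mono (torsHom_mono l n hij)
  let C : ℕ → Set (Pt K A) := fun i => (Subgroup.centralizer (X i) : Set (Pt K A))
  have hC : Antitone C := fun i j hij => Subgroup.centralizer_le (hX hij)
  have hcl : ∀ i, IsCl (C i) := fun i => isCl_centralizer (X i)
  let I : ℕ →o Ideal A := ⟨fun i => vanIdeal (C i), fun i j hij a ha g hg => ha g (hC hij hg)⟩
  obtain ⟨i₀, hi₀⟩ := monotone_stabilizes_iff_noetherian.mpr hN I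
  refine ⟨i₀, fun x hx s => ?_⟩
  have hxC : x ∈ C i₀ := by
    change x ∈ Subgroup.centralizer (X i₀)
    rw [Subgroup.mem_centralizer_iff]
    rintro _ ⟨t, ht, rfl⟩
    exact (hx t ht).symm
  have hxj : ∀ j, x ∈ C j := by
    intro j
    rcases le_total j i₀ with h | h
    · exact hC h hxC
    · apply hcl j
      have h1 : vanIdeal (C i₀) = vanIdeal (C j) := hi₀ j h
      rw [← h1]
      exact fun a ha => ha x hxC
  have hcl' : IsCl {s : Pt K (MonoidAlgebra K (Multiplicative (Fin n → ℤ))) |
      x * Pt.map π s = Pt.map π s * x} :=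
    ((isReg_map π).const_mul x).isCl_eq ((isReg_map π).mul_const x)
  refine mem_of_torsion hl hl0 hcl' (fun i t ht => ?_) s
  have h2 : x ∈ Subgroup.centralizer (X i) := hxj i
  rw [Subgroup.mem_centralizer_iff] at h2
  exact (h2 _ ⟨t, ht, rfl⟩).symm

end level

section roots

/-- The `n`-torsion of a split torus. -/
theorem exists_equiv_torsHom [IsAlgClosed K] (r n : ℕ) [NeZero n] (hn : (n : K) ≠ 0) :
    ∃ f : Multiplicative (Fin r → ZMod n) →* (Multiplicative (Fin r → ℤ) →* Kˣ),
      Function.Injective f ∧ ∀ t ∈ torsHom K r n, ∃ γ, f γ = t := by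
  have : NeZero (n : K) := ⟨hn⟩
  -- roots of unity
  have hcard : Nat.card (rootsOfUnity n K) = n := by
    exact HasEnoughRootsOfUnity.natCard_rootsOfUnity K n
  have hcyc : IsCyclic (rootsOfUnity n K) := inferInstance
  have e0 : Multiplicative (ZMod (Nat.card (rootsOfUnity n K))) ≃* rootsOfUnity n K :=
    zmodCyclicMulEquiv hcyc
  rw [hcard] at e0
  let ζ : Multiplicative (ZMod n) →* Kˣ := (rootsOfUnity n K).subtype.comp e0.toMonoidHom
  have hζi : Function.Injective ζ := Subtype.val_injective.comp e0.injective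
  have hζs : ∀ x : Kˣ, x ^ n = 1 → ∃ a, ζ a = x := fun x hx =>
    ⟨e0.symm ⟨x, hx⟩, by
      change ((e0 (e0.symm ⟨x, hx⟩) : rootsOfUnity n K) : Kˣ) = x
      rw [e0.apply_symm_apply]⟩
  -- the pairing
  let B : (Fin r → ZMod n) →+ (Fin r → ℤ) →+ ZMod n :=
    { toFun := fun a =>
        { toFun := fun m => ∑ i, (m i : ZMod n) * a i
          map_zero' := by simp
          map_add' := fun m m' => by
            rw [← Finset.sum_add_distrib]
            exact Finset.sum_congr rfl fun i _ => by rw [Pi.add_apply]; push_cast; ring }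
      map_zero' := by
        refine AddMonoidHom.ext fun m => ?_
        change ∑ i, (m i : ZMod n) * (0 : Fin r → ZMod n) i = 0
        simp
      map_add' := fun a b => by
        refine AddMonoidHom.ext fun m => ?_
        change ∑ i, (m i : ZMod n) * (a + b) i = ∑ i, (m i : ZMod n) * a i +
          ∑ i, (m i : ZMod n) * b i
        rw [← Finset.sum_add_distrib]
        exact Finset.sum_congr rfl fun i _ => by rw [Pi.add_apply]; ring }
  have hB : ∀ a m, B a m = ∑ i, (m i : ZMod n) * a i := fun a m => rfl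
  have hBs : ∀ a i, B a (Pi.single i 1) = a i := by
    intro a i
    rw [hB, Finset.sum_eq_single i]
    · simp
    · intro j _ hj
      rw [Pi.single_eq_of_ne hj]
      simp
    · intro h
      exact absurd (Finset.mem_univ i) h
  let f : Multiplicative (Fin r → ZMod n) →* (Multiplicative (Fin r → ℤ) →* Kˣ) :=
    { toFun := fun a => ζ.comp (AddMonoidHom.toMultiplicative (B (Multiplicative.toAdd a)))
      map_one' := by
        refine MonoidHom.ext fun m => ?_
        change ζ (Multiplicative.ofAdd (B 0 (Multiplicative.toAdd m))) = 1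
        rw [map_zero]
        exact map_one ζ
      map_mul' := fun a b => by
        refine MonoidHom.ext fun m => ?_
        change ζ (Multiplicative.ofAdd (B (Multiplicative.toAdd a + Multiplicative.toAdd b)
          (Multiplicative.toAdd m))) = _
        rw [map_add]
        change ζ (Multiplicative.ofAdd (B (Multiplicative.toAdd a) (Multiplicative.toAdd m)) *
          Multiplicative.ofAdd (B (Multiplicative.toAdd b) (Multiplicative.toAdd m))) = _
        rw [map_mul]
        rfl }
  have hf : ∀ a i, f a (Multiplicative.ofAdd (Pi.single i 1)) =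
      ζ (Multiplicative.ofAdd (Multiplicative.toAdd a i)) := by
    intro a i
    change ζ (Multiplicative.ofAdd (B (Multiplicative.toAdd a) (Pi.single i 1))) = _
    rw [hBs]
  refine ⟨f, fun a b hab => ?_, fun t ht => ?_⟩
  · apply Multiplicative.toAdd.injective
    funext i
    have h1 := congrArg (fun g => g (Multiplicative.ofAdd (Pi.single i 1))) hab
    simp only [hf] at h1
    exact Multiplicative.ofAdd.injective (hζi h1)
  · choose a ha using fun i : Fin r =>
      hζs (t (Multiplicative.ofAdd (Pi.single i 1))) (ht _)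
    refine ⟨Multiplicative.ofAdd fun i => Multiplicative.toAdd (a i), ?_⟩
    apply hom_ext_basis
    intro i
    rw [hf]
    exact ha i

end roots

section main

variable [IsAlgClosed K]

/-- **A finite subgroup of a torus with the same centralizer.** -/
theorem exists_torsion_hom (G : Over (Spec (CommRingCat.of K))) [GrpObj G] [IsAffine G.left]
    [LocallyOfFiniteType G.hom] {T : Over (Spec (CommRingCat.of K))} [GrpObj T] (i : T ⟶ G)
    [IsMonHom i] {r : ℕ} (hT : Red.IsSplitTorusWith (Fin r → ℤ) T) :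
    ∃ n : ℕ, 1 < n ∧ (n : K) ≠ 0 ∧
      ∃ φ : Multiplicative (Fin r → ZMod n) →* (𝟙_ (Over (Spec (CommRingCat.of K))) ⟶ T),
        Function.Injective φ ∧ ∀ x : 𝟙_ (Over (Spec (CommRingCat.of K))) ⟶ G,
          (∀ γ, x * (φ γ ≫ i) = (φ γ ≫ i) * x) →
            ∀ t : 𝟙_ (Over (Spec (CommRingCat.of K))) ⟶ T, x * (t ≫ i) = (t ≫ i) * x := by
  obtain ⟨A, _, _, e, he, hft⟩ := BrHc.exists_hopf_ft G
  obtain ⟨eT, heT⟩ := isSplitTorusWith_iff.1 hT
  have heT' : IsMonHom eT.inv := inferInstance
  obtain ⟨π, hπ⟩ := exists_bialgHom_of_isMonHom K (eT.inv ≫ i ≫ e.hom)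
  obtain ⟨l, hl, hl0⟩ := exists_prime_ne_zero K
  obtain ⟨i₀, hi₀⟩ := exists_level hl hl0 π
  let n := l ^ (i₀ + 1)
  have hn1 : 1 < n := Nat.one_lt_pow (by omega) hl.one_lt
  have hn0 : (n : K) ≠ 0 := by
    simp only [n, Nat.cast_pow]
    exact pow_ne_zero _ hl0
  have : NeZero n := ⟨by omega⟩
  obtain ⟨f, hf, hfs⟩ := exists_equiv_torsHom (K := K) r n hn0
  -- the points of `T`
  let E : (Multiplicative (Fin r → ℤ) →* Kˣ) ≃* Pt K (KZ K r) := torPt _
  let pT : Pt K (KZ K r) →* (𝟙_ (Over (Spec (CommRingCat.of K))) ⟶ T) :=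
    { toFun := fun s => ptEquiv K (KZ K r) s ≫ eT.inv
      map_one' := by rw [map_one, MonObj.one_comp]
      map_mul' := fun a b => by rw [map_mul, MonObj.mul_comp] }
  have hpT : Function.Bijective pT := by
    constructor
    · intro a b hab
      exact (ptEquiv K (KZ K r)).injective ((cancel_mono eT.inv).mp hab)
    · intro t
      refine ⟨(ptEquiv K (KZ K r)).symm (t ≫ eT.hom), ?_⟩
      change ptEquiv K (KZ K r) ((ptEquiv K (KZ K r)).symm (t ≫ eT.hom)) ≫ eT.inv = t
      rw [MulEquiv.apply_symm_apply, Category.assoc, Iso.hom_inv_id, Category.comp_id]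
  have hpT2 : ∀ s, pT s ≫ i ≫ e.hom = ptEquiv K A (Pt.map π s) := by
    intro s
    change (ptEquiv K (KZ K r) s ≫ eT.inv) ≫ i ≫ e.hom = _
    rw [ptEquiv_map, hπ, Category.assoc]
  let φ : Multiplicative (Fin r → ZMod n) →* (𝟙_ (Over (Spec (CommRingCat.of K))) ⟶ T) :=
    (pT.comp E.toMonoidHom).comp f
  refine ⟨n, hn1, hn0, φ, (hpT.1.comp E.injective).comp hf, fun x hx t => ?_⟩
  -- transport to `Pt K A`
  let x' : Pt K A := (ptEquiv K A).symm (x ≫ e.hom)
  have hx' : ptEquiv K A x' = x ≫ e.hom := MulEquiv.apply_symm_apply _ _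
  have key : ∀ s : Pt K (KZ K r), x * (pT s ≫ i) = (pT s ≫ i) * x ↔
      x' * Pt.map π s = Pt.map π s * x' := by
    intro s
    rw [← cancel_mono e.hom, MonObj.mul_comp, MonObj.mul_comp, Category.assoc, hpT2, ← hx',
      ← map_mul, ← map_mul, (ptEquiv K A).injective.eq_iff]
  obtain ⟨s, rfl⟩ := hpT.2 t
  rw [key]
  refine hi₀ x' (fun t ht => ?_) s
  obtain ⟨γ, hγ⟩ := hfs t (torsHom_mono l r (Nat.le_succ i₀) ht)
  have h1 := (key (torPt _ t)).mp (by
    rw [← hγ]
    exact hx γ)
  exact h1

end main

end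

end Groth.Agent.Sga3.H804.MtTors
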