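import Groth.Agent.Sga3.H804.MtNbhd
import Groth.Agent.Sga3.H804.MtTors
import Groth.Agent.Sga3.H804.DimOne
import Groth.Agent.Sga3B.DsBc
import Groth.Agent.Sga3B.AlgBc2
import Groth.Agent.FlatA.EtaleSections
import Groth.Agent.Sga3.H801.PbFam
import Groth.Agent.Sga3.H795.DisjGrp

/-!
# Maximal tori exist étale locally for groups with affine fibres of unipotent rank zero
-/

set_option autoImplicit false

universe u

open CategoryTheory MonoidalCategory CartesianMonoidalCategory MonObj GrpObj AlgebraicGeometry Limits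

namespace Groth.Agent.Sga3.H804.MtMain

open Groth.Agent.Sga3B Groth.Agent.Sga3B.RedIso Groth.Agent.Sga3.H804.MtBc
  Groth.Agent.Sga3B.BcPts Groth.Agent.Sga3.H797 Groth.Agent.Sga3B.ResAlg

/-- The data on a geometric fibre. -/
def FibData {P : Scheme.{u}} (G : Over P) [GrpObj G] (r : ℕ) {Γ : Type} (φ : Γ → (𝟙_ (Over P) ⟶ G)) :
    Prop :=
  ∃ (T : Over P) (_ : GrpObj T) (i : T ⟶ G) (φT : Γ → (𝟙_ (Over P) ⟶ T)), IsMonHom i ∧ Mono i ∧
    Red.IsSplitTorusWith (Fin r → ℤ) T ∧ (∀ a, φT a ≫ i = φ a) ∧ Function.Injective φT ∧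
    ∀ x : 𝟙_ (Over P) ⟶ G, (∀ a, x * φ a = φ a * x) → ∃ t : 𝟙_ (Over P) ⟶ T, t ≫ i = x

theorem FibData.of_iso {P : Scheme.{u}} {G G' : Over P} [GrpObj G] [GrpObj G']
    (e : Grp.mk G ≅ Grp.mk G') {r : ℕ} {Γ : Type} {φ : Γ → (𝟙_ (Over P) ⟶ G)} (h : FibData G r φ) :
    FibData G' r (fun a => φ a ≫ (und e).hom) := by
  obtain ⟨T, _, i, φT, h1, h2, h3, h4, h5, h6⟩ := h
  refine ⟨T, inferInstance, i ≫ (und e).hom, φT, inferInstance, inferInstance, h3, fun a => ?_, h5,
    fun x hx => ?_⟩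
  · rw [← Category.assoc, h4]
  · obtain ⟨t, ht⟩ := h6 (x ≫ (und e).inv) (fun a => by
      have h7 := congrArg (fun m => m ≫ (und e).inv) (hx a)
      simpa only [MonObj.mul_comp, Category.assoc, Iso.hom_inv_id, Category.comp_id] using h7)
    exact ⟨t, by rw [← Category.assoc, ht, Category.assoc, Iso.inv_hom_id, Category.comp_id]⟩

lemma isIso_toUnit {P P' : Scheme.{u}} (ϑ : P' ⟶ P) [IsIso ϑ] :
    IsIso (toUnit ((Over.map ϑ).obj (𝟙_ (Over P')))) := by
  have h5 : (toUnit ((Over.map ϑ).obj (𝟙_ (Over P')))).left = ϑ := by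
    have h6 := Over.w (toUnit ((Over.map ϑ).obj (𝟙_ (Over P'))))
    have h7 : (𝟙_ (Over P)).hom = 𝟙 P := rfl
    have h8 : ((Over.map ϑ).obj (𝟙_ (Over P'))).hom = 𝟙 P' ≫ ϑ := rfl
    rw [h7, h8] at h6
    exact (Category.comp_id _).symm.trans (h6.trans (Category.id_comp _))
  have h6 : IsIso ((Over.forget P).map (toUnit ((Over.map ϑ).obj (𝟙_ (Over P'))))) := by
    change IsIso (toUnit ((Over.map ϑ).obj (𝟙_ (Over P')))).left
    rw [h5]
    infer_instance
  exact isIso_of_reflects_iso _ (Over.forget P)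

lemma secBc_bijective {P P' : Scheme.{u}} (ϑ : P' ⟶ P) [IsIso ϑ] (G : Over P) [GrpObj G] :
    Function.Bijective (secBc ϑ G) := by
  have := isIso_toUnit ϑ
  constructor
  · intro σ τ h
    rw [secBc_apply, secBc_apply, (bcEquiv _ _ _).injective.eq_iff, cancel_epi] at h
    exact h
  · intro x
    refine ⟨inv (toUnit _) ≫ (bcEquiv ϑ _ _).symm x, ?_⟩
    rw [secBc_apply, IsIso.hom_inv_id_assoc, Equiv.apply_symm_apply]

theorem FibData.bc {P P' : Scheme.{u}} (ϑ : P' ⟶ P) [IsIso ϑ] {G : Over P} [GrpObj G] {r : ℕ}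
    {Γ : Type} {φ : Γ → (𝟙_ (Over P) ⟶ G)} (h : FibData G r φ) :
    FibData (Red.bc ϑ G) r (fun a => secBc ϑ G (φ a)) := by
  obtain ⟨T, _, i, φT, h1, h2, h3, h4, h5, h6⟩ := h
  refine ⟨Red.bc ϑ T, inferInstance, (Over.pullback ϑ).map i, fun a => secBc ϑ T (φT a),
    inferInstance, inferInstance, TorusAlgClosed.isSplitTorusWith_bc ϑ h3, fun a => ?_,
    (secBc_bijective ϑ T).1.comp h5, fun x hx => ?_⟩
  · rw [secBc_comp, h4]
  · obtain ⟨x, rfl⟩ := (secBc_bijective ϑ G).2 x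
    obtain ⟨t, ht⟩ := h6 x (fun a => by
      apply (secBc_bijective ϑ G).1
      rw [map_mul, map_mul]
      exact hx a)
    exact ⟨secBc ϑ T t, by rw [secBc_comp, ht]⟩

lemma fibIso_fst {S S' T T' : Scheme.{u}} {θ : T' ⟶ T} {g : T ⟶ S} {g' : T' ⟶ S'} {f : S' ⟶ S}
    (h : θ ≫ g = g' ≫ f) (G : Over S) [GrpObj G] :
    (und (BcNat.fibIso h G)).hom.left ≫ pullback.fst (Red.bc g G).hom θ ≫ pullback.fst G.hom g =
      pullback.fst (Red.bc f G).hom g' ≫ pullback.fst G.hom f := by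
  simp only [BcNat.fibIso, BcNat.und_trans, BcNat.und_symm, Over.comp_left, Category.assoc]
  rw [DsBc.bcComp_fst, DsBc.bcCongr_fst, H801.PbFam.comp_inv_left]

lemma algRes_of_comp {X Y Z : Scheme.{u}} (f : X ⟶ Y) (g : Y ⟶ Z) [AlgRes (f ≫ g)] : AlgRes f where
  isIntegral x := by
    have h : (f ≫ g).residueFieldMap x = g.residueFieldMap (f x) ≫ f.residueFieldMap x :=
      Scheme.residueFieldMap_comp f g x
    have h1 := (congrArg (fun t : Z.residueField (g (f x)) ⟶ X.residueField x => t.hom.IsIntegral) h).mp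
      (AlgRes.isIntegral (f := f ≫ g) x)
    exact RingHom.IsIntegral.tower_top _ _ h1

lemma isAffine_geomFibre {S : Scheme.{u}} {G : Over S} (h : AffDvrGrp789.AffFib G.hom) (s : S) :
    IsAffine (Red.geomFibre s G).left := h _ (Red.geomPt s)

/-- **A smooth neighbourhood with a maximal torus.** -/
theorem exists_smooth_nhd (hTC : MtNbhd.TorusCrit.{u}) {S : Scheme.{u}} (G : Over S) [GrpObj G]
    [Smooth G.hom] [QuasiCompact G.hom] [IsSeparated G.hom] (haff : AffDvrGrp789.AffFib G.hom)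
    (r n : ℕ) (hn1 : 1 < n) (hn : HomFin.Inv n S) (s : S)
    (φ : Multiplicative (Fin r → ZMod n) →* (𝟙_ _ ⟶ Red.geomFibre s G))
    (hF : FibData (Red.geomFibre s G) r φ) :
    ∃ (V : Scheme.{u}) (g : V ⟶ S), Smooth g ∧ s ∈ Set.range g ∧
      ∃ (T : Over V) (_ : GrpObj T) (i : T ⟶ Red.bc g G), Red.IsMaximalTorus i := by
  have hNZ : NeZero n := ⟨by omega⟩
  have hn' : HomFin.Inv (Nat.card (Multiplicative (Fin r → ZMod n))) S := by
    have h2 : Nat.card (Multiplicative (Fin r → ZMod n)) = n ^ r := by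
      rw [Nat.card_congr Multiplicative.toAdd, Nat.card_fun, Nat.card_zmod, Nat.card_fin]
    rw [h2]
    change IsUnit ((n ^ r : ℕ) : Γ(S, ⊤))
    rw [Nat.cast_pow]
    exact IsUnit.pow r hn
  obtain ⟨H, υ, hH, -, hlfp, -⟩ := HomFin.exists_rep G (Multiplicative (Fin r → ZMod n))
  have := hlfp inferInstance
  have hHs : Smooth H.hom := HomFin.smooth_rep hH hn'
  -- the point
  obtain ⟨x, hx, -⟩ := hH.existsUnique ((Over.map (Red.geomPt s)).obj (𝟙_ _))
    ((bcMulEquiv (Red.geomPt s) (𝟙_ _) G).symm.toMonoidHom.comp φ)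
  let K := AlgebraicClosure (S.residueField s)
  let pp : Spec (CommRingCat.of K) ⟶ H.left := x.left
  have hpp : pp ≫ H.hom = Red.geomPt s := (Over.w x).trans (Category.id_comp _)
  let y : Spec (CommRingCat.of K) := IsLocalRing.closedPoint K
  have halg : AlgRes (pp ≫ H.hom) := by rw [hpp]; infer_instance
  have halg' : AlgRes pp := algRes_of_comp pp H.hom
  obtain ⟨θ, hθ, hh⟩ := exists_iso_geomPt pp y
  have hyi : IsIso (Red.geomPt y) := AlgBc.isIso_geomPt y
  let ϑ := CategoryTheory.inv θ ≫ Red.geomPt y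
  have hϑ : IsIso ϑ := inferInstance
  have hϑp : ϑ ≫ pp = Red.geomPt (pp y) := by
    change (CategoryTheory.inv θ ≫ Red.geomPt y) ≫ pp = _
    rw [Category.assoc, ← hh, IsIso.inv_hom_id_assoc]
  have hcomm : ϑ ≫ Red.geomPt s = Red.geomPt (pp y) ≫ H.hom := by
    rw [← hϑp, Category.assoc ϑ, hpp]
  let ιH : (Over.map H.hom).obj (𝟙_ (Over H.left)) ⟶ H := Over.homMk (𝟙 _) rfl
  let φH : Multiplicative (Fin r → ZMod n) →* (𝟙_ (Over H.left) ⟶ Red.bc H.hom G) :=
    (bcMulEquiv H.hom (𝟙_ _) G).toMonoidHom.comp ((InfChart.pre G ιH).comp υ)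
  have hφH : ∀ a, (φH a).left ≫ pullback.fst G.hom H.hom = (υ a).left := by
    intro a
    have h1 := H801.PbFam.bcEquiv_left_fst (x := H.hom) (ιH ≫ υ a)
    exact h1.trans (Category.id_comp _)
  have hφ : ∀ a, (φ a).left ≫ pullback.fst G.hom (Red.geomPt s) = pp ≫ (υ a).left := by
    intro a
    have h1 := congrArg (fun m => Over.Hom.left m) (hx a)
    have h2 := H801.PbFam.bcEquiv_symm_left (x := Red.geomPt s) (φ a)
    exact h2.symm.trans h1.symm
  have hE : ∀ a, secBc (Red.geomPt (pp y)) (Red.bc H.hom G) (φH a) ≫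
      (und (BcNat.fibIso hcomm G)).hom = secBc ϑ (Red.geomFibre s G) (φ a) := by
    intro a
    have h1 : (secBc (Red.geomPt (pp y)) (Red.bc H.hom G) (φH a)).left ≫
        pullback.fst (Red.bc H.hom G).hom (Red.geomPt (pp y)) = Red.geomPt (pp y) ≫ (φH a).left :=
      secBc_fst _ _
    have h2 : (secBc ϑ (Red.geomFibre s G) (φ a)).left ≫
        pullback.fst (Red.bc (Red.geomPt s) G).hom ϑ = ϑ ≫ (φ a).left := secBc_fst _ _
    apply H801.PbFam.bc_hom_ext
    apply pullback.hom_ext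
    · rw [Over.comp_left, Category.assoc, Category.assoc]
      have h3 := fibIso_fst hcomm G
      refine (congrArg (fun m => (secBc (Red.geomPt (pp y)) (Red.bc H.hom G) (φH a)).left ≫ m)
        h3).trans ?_
      rw [← Category.assoc, h1, h2]
      refine (Category.assoc (Red.geomPt (pp y)) _ _).trans ?_
      refine Eq.trans ?_ (Category.assoc ϑ _ _).symm
      rw [hφH]
      refine Eq.trans ?_ (congrArg (fun m => ϑ ≫ m) (hφ a)).symm
      rw [← hϑp]
      exact Category.assoc _ _ _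
    · rw [h2]
      have h4 : ∀ z : 𝟙_ _ ⟶ Red.bc ϑ (Red.geomFibre s G),
          (z.left ≫ pullback.fst (Red.bc (Red.geomPt s) G).hom ϑ) ≫ pullback.snd G.hom (Red.geomPt s) =
            ϑ := by
        intro z
        rw [Category.assoc]
        have h5 : pullback.fst (Red.bc (Red.geomPt s) G).hom ϑ ≫ pullback.snd G.hom (Red.geomPt s) =
            (Red.bc ϑ (Red.geomFibre s G)).hom ≫ ϑ := pullback.condition
        rw [h5, ← Category.assoc, Over.w]
        exact Category.id_comp _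
      rw [h4]
      have h6 : (φ a).left ≫ pullback.snd G.hom (Red.geomPt s) = 𝟙 _ := Over.w (φ a)
      refine Eq.trans ?_ (Category.assoc _ _ _).symm
      refine Eq.trans ?_ (congrArg (fun m => ϑ ≫ m) h6).symm
      exact (Category.comp_id _).symm
  have hF' : FibData (Red.geomFibre (pp y) (Red.bc H.hom G)) r
      (fun a => secBc (Red.geomPt (pp y)) (Red.bc H.hom G) (φH a)) := by
    have h1 := (hF.bc ϑ).of_iso (BcNat.fibIso hcomm G).symm
    have h2 : (fun a => secBc (Red.geomPt (pp y)) (Red.bc H.hom G) (φH a)) =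
        fun a => secBc ϑ (Red.geomFibre s G) (φ a) ≫ (und (BcNat.fibIso hcomm G).symm).hom := by
      funext a
      rw [← hE, Category.assoc]
      exact ((congrArg _ (Iso.hom_inv_id _)).trans (Category.comp_id _)).symm
    rw [h2]
    exact h1
  obtain ⟨T, _, i, φT, hi1, hi2, hT, hφT, hinj, hcent⟩ := hF'
  have hs1 : Smooth (Red.bc H.hom G).hom := inferInstanceAs (Smooth (pullback.snd G.hom H.hom))
  have hs2 : QuasiCompact (Red.bc H.hom G).hom :=
    inferInstanceAs (QuasiCompact (pullback.snd G.hom H.hom))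
  have hs3 : IsSeparated (Red.bc H.hom G).hom :=
    inferInstanceAs (IsSeparated (pullback.snd G.hom H.hom))
  obtain ⟨U, hU, T', _, i', hi'⟩ := MtNbhd.exists_nhd hTC (Red.bc H.hom G)
    (fun h => isAffine_geomFibre (AffDvrBase789.affFib_bc H.hom G haff) h) r n hn1
    (hn.of_hom H.hom) φH (pp y) i hT φT hφT hinj hcent
  refine ⟨U, U.ι ≫ H.hom, inferInstance, ⟨⟨pp y, hU⟩, ?_⟩, T', inferInstance,
    i' ≫ (und (BcIso.bcCompIso U.ι H.hom G)).inv, ?_⟩
  · change H.hom (pp y) = s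
    rw [← Scheme.Hom.comp_apply, hpp]
    exact MtNbhd.geomPt_apply s y
  · refine AlgBc.isMaximalTorus_of_arrow (Iso.refl _) (BcIso.bcCompIso U.ι H.hom G).symm ?_ hi'
    exact (Category.id_comp _).symm

/-- Postcomposition with a homomorphism. -/
def post {P : Scheme.{u}} (X : Over P) {G G' : Over P} [GrpObj G] [GrpObj G'] (f : G ⟶ G') [IsMonHom f] :
    (X ⟶ G) →* (X ⟶ G') where
  toFun x := x ≫ f
  map_one' := MonObj.one_comp _
  map_mul' _ _ := MonObj.mul_comp _ _ _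

/-- **The data on a geometric fibre exist.** -/
theorem exists_fibData {K : Type u} [Field K] [IsAlgClosed K] (G : Over (Spec (CommRingCat.of K)))
    [GrpObj G] [IsAffine G.left] [LocallyOfFiniteType G.hom]
    (hu : ∀ (T : Over (Spec (CommRingCat.of K))) [GrpObj T] (i : T ⟶ G), Red.IsMaximalTorus i →
      Red.IsCentralizerOf i i) :
    ∃ (r n : ℕ), 1 < n ∧ (n : K) ≠ 0 ∧
      ∃ φ : Multiplicative (Fin r → ZMod n) →* (𝟙_ (Over (Spec (CommRingCat.of K))) ⟶ G),
        FibData G r φ := by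
  obtain ⟨T, _, i, hi, r, hT⟩ := RG.BrHc.exists_isMaximalTorus G
  have hi1 : IsMonHom i := hi.1
  have hi2 : Mono i := hi.2.1
  obtain ⟨n, hn1, hn, φ, hφ, hcomm⟩ := MtTors.exists_torsion_hom G i hT
  refine ⟨r, n, hn1, hn, (post _ i).comp φ, T, inferInstance, i, φ, hi1, hi2, hT, fun a => rfl, hφ,
    fun x hx => ?_⟩
  have hTor := RG.BrTorus.isTorus_of_isSplitTorusWith hT
  have hTs : Smooth T.hom := TorusAlgClosed.smooth_of_isTorus hTor
  have hTred : IsReduced T.left := Flat2B.SmoothGeom.isReduced_of_smooth T.hom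
  have h1 := hcomm x hx
  have h2 : (toUnit T ≫ x) * i = i * (toUnit T ≫ x) := by
    refine RG.BrPts.hom_ext_of_points _ _ fun t => ?_
    rw [MonObj.comp_mul, MonObj.comp_mul, ← Category.assoc, toUnit_unique (t ≫ toUnit T) (𝟙 _),
      Category.id_comp]
    exact h1 t
  refine ((hu T i hi).2.2 _ x).mpr fun X' x' h => ?_
  have h3 := congrArg (fun m => h ≫ m) h2
  simp only [MonObj.comp_mul, ← Category.assoc] at h3
  rw [toUnit_unique (h ≫ toUnit T) x'] at h3
  exact h3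

/-- Existence of maximal tori in an étale neighbourhood. -/
def EtLoc {S : Scheme.{u}} (G : Over S) [GrpObj G] (s : S) : Prop :=
  ∃ (S' : Scheme.{u}) (f : S' ⟶ S), Etale f ∧ s ∈ Set.range f ∧
    ∃ (T : Over S') (_ : GrpObj T) (i : T ⟶ Red.bc f G), Red.IsMaximalTorus i

theorem etLoc_of_smooth {S : Scheme.{u}} (G : Over S) [GrpObj G] (s : S) {V : Scheme.{u}} (g : V ⟶ S)
    [Smooth g] (hs : s ∈ Set.range g) {T : Over V} [GrpObj T] {i : T ⟶ Red.bc g G}
    (hi : Red.IsMaximalTorus i) : EtLoc G s := by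
  obtain ⟨S', f, s', hf, hs', h, hh⟩ := FlatA.EtaleSections.exists_section g s hs
  subst hh
  have hu : FormallyUnramified h := by
    have : FormallyUnramified (h ≫ g) := inferInstance
    exact FormallyUnramified.of_comp h g
  have hl : LocallyOfFiniteType h := locallyOfFiniteType_of_comp h g
  refine ⟨S', h ≫ g, hf, ⟨s', hs'⟩, Red.bc h T, inferInstance,
    (Over.pullback h).map i ≫ (und (BcIso.bcCompIso h g G)).inv, ?_⟩
  refine AlgBc.isMaximalTorus_of_arrow (Iso.refl _) (BcIso.bcCompIso h g G).symm ?_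
    (AlgBc.isMaximalTorus_bc h hi)
  exact (Category.id_comp _).symm

theorem etLoc_of_isOpenImmersion {S : Scheme.{u}} (G : Over S) [GrpObj G] (U : S.Opens) (s : U)
    (h : EtLoc (Red.bc U.ι G) s) : EtLoc G (U.ι s) := by
  obtain ⟨S', f, hf, ⟨s', hs'⟩, T, _, i, hi⟩ := h
  refine ⟨S', f ≫ U.ι, inferInstance, ⟨s', by rw [Scheme.Hom.comp_apply, hs']⟩, T, inferInstance,
    i ≫ (und (BcIso.bcCompIso f U.ι G)).inv, ?_⟩
  refine AlgBc.isMaximalTorus_of_arrow (Iso.refl _) (BcIso.bcCompIso f U.ι G).symm ?_ hi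
  exact (Category.id_comp _).symm

lemma inv_basicOpen {S : Scheme.{u}} (n : ℕ) :
    HomFin.Inv n ((S.basicOpen (n : Γ(S, ⊤)) : S.Opens) : Scheme.{u}) := by
  have h1 := S.toRingedSpace.isUnit_res_basicOpen (n : Γ(S, ⊤))
  have h2 := h1.map (Scheme.Opens.topIso (S.basicOpen (n : Γ(S, ⊤)))).inv.hom
  have h3 : IsUnit ((n : ℕ) : Γ(S, S.basicOpen (n : Γ(S, ⊤)))) := by
    have h4 : (S.presheaf.map (@homOfLE S.Opens _ _ _ (S.basicOpen_le (n : Γ(S, ⊤)))).op).hom
        ((n : ℕ) : Γ(S, ⊤)) = ((n : ℕ) : Γ(S, S.basicOpen (n : Γ(S, ⊤)))) := map_natCast _ _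
    rw [← h4]
    exact h1
  have h5 := h3.map (Scheme.Opens.topIso (S.basicOpen (n : Γ(S, ⊤)))).inv.hom
  rwa [map_natCast] at h5

lemma mem_basicOpen {S : Scheme.{u}} {n : ℕ} {s : S} (h : (n : AlgebraicClosure (S.residueField s)) ≠ 0) :
    s ∈ S.basicOpen (n : Γ(S, ⊤)) := by
  rw [Scheme.mem_basicOpen_top, map_natCast]
  have h1 : ((n : ℕ) : S.residueField s) ≠ 0 := by
    intro h2
    apply h
    rw [← map_natCast (algebraMap (S.residueField s) (AlgebraicClosure (S.residueField s))), h2, map_zero]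
  rw [← IsLocalRing.notMem_maximalIdeal, ← IsLocalRing.residue_eq_zero_iff]
  intro h3
  apply h1
  rw [map_natCast] at h3
  exact h3

theorem etLoc (hTC : MtNbhd.TorusCrit.{u}) {S : Scheme.{u}} (G : Over S) [GrpObj G]
    [Smooth G.hom] [QuasiCompact G.hom] [IsSeparated G.hom] (haff : AffDvrGrp789.AffFib G.hom)
    (hu : SGA3x.UnipotentRankZero G) (s : S) : EtLoc G s := by
  have h1 := isAffine_geomFibre haff s
  have h2 : LocallyOfFiniteType (Red.geomFibre s G).hom :=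
    inferInstanceAs (LocallyOfFiniteType (pullback.snd G.hom (Red.geomPt s)))
  obtain ⟨r, n, hn1, hn, φ, hφ⟩ := exists_fibData (Red.geomFibre s G) (hu s)
  let U : S.Opens := S.basicOpen (n : Γ(S, ⊤))
  have hsU : s ∈ U := mem_basicOpen hn
  let s' : U := ⟨s, hsU⟩
  have hInv : HomFin.Inv n (U : Scheme.{u}) := inv_basicOpen n
  obtain ⟨θ, hθ, hh⟩ := exists_iso_geomPt U.ι s'
  have hs1 : Smooth (Red.bc U.ι G).hom := inferInstanceAs (Smooth (pullback.snd G.hom U.ι))
  have hs2 : QuasiCompact (Red.bc U.ι G).hom :=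
    inferInstanceAs (QuasiCompact (pullback.snd G.hom U.ι))
  have hs3 : IsSeparated (Red.bc U.ι G).hom :=
    inferInstanceAs (IsSeparated (pullback.snd G.hom U.ι))
  let φ' : Multiplicative (Fin r → ZMod n) →* (𝟙_ _ ⟶ Red.bc (Red.geomPt (U.ι s')) G) := φ
  have hφ' : FibData (Red.bc (Red.geomPt (U.ι s')) G) r φ' := hφ
  obtain ⟨V, g, hg, hsg, T, _, i, hi⟩ := exists_smooth_nhd hTC (Red.bc U.ι G)
    (AffDvrBase789.affFib_bc U.ι G haff) r n hn1 hInv s'
    ((post _ (und (BcNat.fibIso hh G).symm).hom).comp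
      ((secBc θ (Red.bc (Red.geomPt (U.ι s')) G)).comp φ'))
    ((hφ'.bc θ).of_iso (BcNat.fibIso hh G).symm)
  exact etLoc_of_isOpenImmersion G U s' (etLoc_of_smooth _ s' g hsg hi)

/-- **Clause (1)**: maximal tori exist étale locally. -/
theorem hasMaxTorusEtaleLocally (hTC : MtNbhd.TorusCrit.{u}) {S : Scheme.{u}} (G : Over S) [GrpObj G]
    [Smooth G.hom] [QuasiCompact G.hom] [IsSeparated G.hom] (haff : AffDvrGrp789.AffFib G.hom)
    (hu : SGA3x.UnipotentRankZero G) : SGA3x.HasMaxTorusEtaleLocally G :=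
  H795.DisjGrp.hasMaxTorusEtaleLocally_of_forall G fun s => etLoc hTC G haff hu s

end Groth.Agent.Sga3.H804.MtMain
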