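import Groth.Agent.Sga3.H804.MtFib
import Groth.Agent.Sga3.H804.MtCent
import Groth.Agent.Sga3.H778.NeutralOpen
import Groth.Agent.Sga3B.DimFib
import Groth.Agent.Sga3C.GrpIrr

/-!
# A maximal torus near a point from a finite group of torsion points

`exists_nhd`: `G` smooth and separated over `S` with affine geometric fibres, `φ : (ℤ/n)^r → G(S)`, such that on
the geometric fibre over `s` the centralizer of `φ` is a torus of rank `r` (on rational points).  Then `G`
has a maximal torus over a neighbourhood of `s`.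
-/

set_option autoImplicit false

universe u

open CategoryTheory MonoidalCategory CartesianMonoidalCategory MonObj GrpObj AlgebraicGeometry Limits

namespace Groth.Agent.Sga3.H804.MtNbhd

open Groth.Agent.Sga3B Groth.Agent.Sga3.H804.MtBc Groth.Agent.Sga3.H778.NeutralOpen
  Groth.Agent.Sga3.H778.NeutralPts Groth.Agent.Sga3B.BcPts Groth.Agent.Sga3.H797

/-- The torus criterion. -/
def TorusCrit : Prop := ∀ {S : Scheme.{u}} (C : Over S) [GrpObj C] [Smooth C.hom]
  [QuasiCompact C.hom], (∀ s : S, Red.IsTorus (Red.geomFibre s C)) → Red.IsTorus C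

variable {S : Scheme.{u}}

lemma geomPt_apply (s : S) (y : Spec (CommRingCat.of (AlgebraicClosure (S.residueField s)))) :
    Red.geomPt s y = s := by
  rw [Scheme.Hom.comp_apply]
  exact Scheme.fromSpecResidueField_apply _ _

/-- Connected schemes over a geometric point mapping to a group through the unit land in the neutral
component. -/
theorem exists_lift_connected (C : Over S) [GrpObj C] (h : IsOpen (SGA3x.neutralSet C)) (s : S)
    (X : Over (Spec (CommRingCat.of (AlgebraicClosure (S.residueField s))))) [ConnectedSpace X.left]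
    (x : X ⟶ Red.geomFibre s C) (hx : ∃ e : 𝟙_ _ ⟶ X, e ≫ x = 1) :
    ∃ y : X ⟶ Red.geomFibre s (opn C (neutral C h)),
      y ≫ (Over.pullback (Red.geomPt s)).map (opnι C (neutral C h)) = x := by
  obtain ⟨e, he⟩ := hx
  obtain ⟨x', rfl⟩ := (bcEquiv (Red.geomPt s) X C).surjective x
  have hs : ∀ p, C.hom (x'.left p) = s := by
    intro p
    have h1 : x'.left ≫ C.hom = X.hom ≫ Red.geomPt s := Over.w x'
    rw [← Scheme.Hom.comp_apply, h1, Scheme.Hom.comp_apply]
    exact geomPt_apply s _
  have hXc : ConnectedSpace ((Over.map (Red.geomPt s)).obj X).left := ‹_›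
  have hcon : _root_.IsPreconnected (Set.range x'.left) := isPreconnected_range x'.left.continuous
  -- the unit point is in the range
  have hu : unitSec C s ∈ Set.range x'.left := by
    have h1 : (Over.map (Red.geomPt s)).map e ≫ x' = 1 := by
      apply (bcEquiv (Red.geomPt s) (𝟙_ _) C).injective
      rw [comp_bcEquiv, he, bcEquiv_one]
    have p : (𝟙_ (Over (Spec (CommRingCat.of (AlgebraicClosure (S.residueField s)))))).left :=
      (IsLocalRing.closedPoint (AlgebraicClosure (S.residueField s)) :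
        Spec (CommRingCat.of (AlgebraicClosure (S.residueField s))))
    have h2 : x'.left (e.left p) = ((1 : (Over.map (Red.geomPt s)).obj (𝟙_ _) ⟶ C).left) p := by
      rw [← h1]
      rfl
    have h3 : (1 : (Over.map (Red.geomPt s)).obj (𝟙_ _) ⟶ C).left =
        (toUnit ((Over.map (Red.geomPt s)).obj (𝟙_ _))).left ≫ unitSec C := rfl
    rw [h3, Scheme.Hom.comp_apply] at h2
    have h4 : (toUnit ((Over.map (Red.geomPt s)).obj (𝟙_ _))).left p = s := by
      have h5 := hs (e.left p)
      rw [h2, hom_unitSec] at h5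
      exact h5
    rw [h4] at h2
    exact ⟨_, h2⟩
  obtain ⟨y, hy⟩ := exists_lift (neutral C h) x' (fun p => by
    change x'.left p ∈ SGA3x.neutralSet C
    rw [neutralSet_eq]
    change x'.left p ∈ connectedComponentIn _ _
    rw [hs p]
    refine hcon.subset_connectedComponentIn hu ?_ ⟨p, rfl⟩
    rintro _ ⟨q, rfl⟩
    exact hs q)
  exact ⟨bcEquiv (Red.geomPt s) X _ y, by rw [← bcEquiv_comp, hy]⟩

/-- The set of points over which a section is trivial. -/
theorem exists_trivial_locus (G : Over S) [GrpObj G] [IsSeparated G.hom] (σ : 𝟙_ (Over S) ⟶ G) :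
    ∃ Z : Set S, IsClosed Z ∧ ∀ s : S, s ∈ Z ↔ secBc (Red.geomPt s) G σ = 1 := by
  obtain ⟨Z, z, hz, huniv, -⟩ := HomFin.exists_eq σ (η[G] : 𝟙_ (Over S) ⟶ G)
  refine ⟨Set.range z.left, z.left.isClosedEmbedding.isClosed_range, fun s => ?_⟩
  have h1 : secBc (Red.geomPt s) G σ = 1 ↔ toUnit ((Over.map (Red.geomPt s)).obj (𝟙_ _)) ≫ σ =
      toUnit ((Over.map (Red.geomPt s)).obj (𝟙_ _)) ≫ (η[G] : 𝟙_ (Over S) ⟶ G) := by
    rw [secBc_apply, ← bcEquiv_one (f := Red.geomPt s), (bcEquiv _ _ _).injective.eq_iff]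
    rfl
  rw [h1, ← huniv]
  have h5 : (toUnit ((Over.map (Red.geomPt s)).obj (𝟙_ _))).left = Red.geomPt s := by
    have h6 := Over.w (toUnit ((Over.map (Red.geomPt s)).obj (𝟙_ _)))
    have h7 : (𝟙_ (Over S)).hom = 𝟙 S := rfl
    have h8 : ((Over.map (Red.geomPt s)).obj (𝟙_ _)).hom = 𝟙 _ ≫ Red.geomPt s := rfl
    rw [h7, h8] at h6
    exact (Category.comp_id _).symm.trans (h6.trans (Category.id_comp _))
  constructor
  · rintro ⟨w, hw⟩
    -- the pullback of `z` to the geometric point is an isomorphism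
    have hcl : IsClosedImmersion (pullback.snd z.left (Red.geomPt s)) := inferInstance
    have hsurj : Surjective (pullback.snd z.left (Red.geomPt s)) := by
      refine ⟨fun y => ?_⟩
      have h2 : y ∈ Set.range (pullback.snd z.left (Red.geomPt s)) := by
        rw [Scheme.Pullback.range_snd]
        exact ⟨w, hw.trans (geomPt_apply s y).symm⟩
      exact h2
    have hiso : IsIso (pullback.snd z.left (Red.geomPt s)) :=
      isIso_of_isClosedImmersion_of_surjective _
    refine ⟨Over.homMk (inv (pullback.snd z.left (Red.geomPt s)) ≫ pullback.fst _ _) ?_, ?_⟩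
    · have h3 : z.left = Z.hom := by
        have := Over.w z
        exact (Category.comp_id _).symm.trans this
      change (inv (pullback.snd z.left (Red.geomPt s)) ≫ pullback.fst _ _) ≫ Z.hom = 𝟙 _ ≫ Red.geomPt s
      rw [← h3, Category.assoc, pullback.condition, IsIso.inv_hom_id_assoc, Category.id_comp]
    · ext1
      rw [h5]
      change (inv (pullback.snd z.left (Red.geomPt s)) ≫ pullback.fst _ _) ≫ z.left = _
      rw [Category.assoc, pullback.condition, IsIso.inv_hom_id_assoc]
  · rintro ⟨t, ht⟩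
    have h2 := congrArg (fun m => Over.Hom.left m) ht
    simp only [Over.comp_left, h5] at h2
    have p : (Spec (CommRingCat.of (AlgebraicClosure (S.residueField s))) : Scheme.{u}) :=
      IsLocalRing.closedPoint (AlgebraicClosure (S.residueField s))
    refine ⟨t.left p, ?_⟩
    rw [← Scheme.Hom.comp_apply, h2]
    exact geomPt_apply s p

/-- **A maximal torus near a point.** -/
theorem exists_nhd (hTC : TorusCrit.{u}) (G : Over S) [GrpObj G] [Smooth G.hom] [QuasiCompact G.hom]
    [IsSeparated G.hom] (haff : ∀ s : S, IsAffine (Red.geomFibre s G).left) (r n : ℕ) (hn1 : 1 < n)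
    (hn : HomFin.Inv n S) (φ : Multiplicative (Fin r → ZMod n) →* (𝟙_ (Over S) ⟶ G)) (s : S)
    {T : Over (Spec (CommRingCat.of (AlgebraicClosure (S.residueField s))))} [GrpObj T]
    (i : T ⟶ Red.geomFibre s G) [IsMonHom i] [Mono i] (hT : Red.IsSplitTorusWith (Fin r → ℤ) T)
    (φT : Multiplicative (Fin r → ZMod n) → (𝟙_ _ ⟶ T))
    (hφT : ∀ a, φT a ≫ i = secBc (Red.geomPt s) G (φ a)) (hinj : Function.Injective φT)
    (hcent : ∀ x : 𝟙_ _ ⟶ Red.geomFibre s G,
      (∀ a, x * secBc (Red.geomPt s) G (φ a) = secBc (Red.geomPt s) G (φ a) * x) →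
        ∃ t : 𝟙_ _ ⟶ T, t ≫ i = x) :
    ∃ U : S.Opens, s ∈ U ∧ ∃ (T : Over (U : Scheme.{u})) (_ : GrpObj T) (i : T ⟶ Red.bc U.ι G),
      Red.IsMaximalTorus i := by
  have hNZ : NeZero n := ⟨by omega⟩
  have hn' : HomFin.Inv (Nat.card (Multiplicative (Fin r → ZMod n))) S := by
    have h2 : Nat.card (Multiplicative (Fin r → ZMod n)) = n ^ r := by
      rw [Nat.card_congr Multiplicative.toAdd, Nat.card_fun, Nat.card_zmod, Nat.card_fin]
    rw [h2]
    change IsUnit ((n ^ r : ℕ) : Γ(S, ⊤))
    rw [Nat.cast_pow]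
    exact IsUnit.pow r hn
  obtain ⟨C, _, c, hcm, hcl, hCs, hCent⟩ := MtCent.exists_centralizer G hn' φ
  have hCent : IsCentFin φ c := hCent
  have hcmono : Mono c := by
    have : Mono c.left := inferInstance
    exact Over.mono_of_mono_left c
  -- the neutral component
  have hsmT : Smooth ((⊤ : C.left.Opens).ι ≫ C.hom) := inferInstance
  have hop : IsOpen (SGA3x.neutralSet C) := isOpen_neutralSet C ⊤ fun _ => trivial
  obtain ⟨hgrp, hmon⟩ := exists_grpObj C hop
  have hsm0 : Smooth (opn C (neutral C hop)).hom := smooth_neutral C ⊤ (fun _ => trivial) hop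
  have hconn0 := isConnected_fibre C hop
  have hqc0 : QuasiCompact (opn C (neutral C hop)).hom :=
    (Groth.Agent.S3025.result S (opn C (neutral C hop)) hconn0).2
  have hgi0 : GeometricallyIrreducible (opn C (neutral C hop)).hom :=
    @Groth.Agent.Sga3C.GrpIrr.geometricallyIrreducible_of_connected_fibres _ _
      (opn C (neutral C hop)).hom _ hgrp hconn0
  let C0 : Over S := opn C (neutral C hop)
  let j : C0 ⟶ C := opnι C (neutral C hop)
  have hjm : Mono j := inferInstanceAs (Mono (opnι C (neutral C hop)))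
  -- the sections
  have hunit : ∀ a, toUnit (𝟙_ (Over S)) ≫ φ a = φ a := fun a => by
    rw [toUnit_unique (toUnit (𝟙_ (Over S))) (𝟙 _), Category.id_comp]
  choose ψ hψ using fun a => (hCent (𝟙_ (Over S)) (φ a)).mpr (fun b => by
    rw [hunit, ← map_mul, ← map_mul, _root_.mul_comm])
  choose Z hZcl hZ using fun a => exists_trivial_locus G (φ a)
  -- the open set
  let A : Set S := ⋂ a, (ψ a).left ⁻¹' SGA3x.neutralSet C
  let B : Set S := {t | topologicalKrullDim ↥(Red.geomFibre t C0).left = r}
  let D : Set S := ⋂ a : {a : Multiplicative (Fin r → ZMod n) // a ≠ 1}, (Z a.1)ᶜ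
  have hA : IsOpen A := isOpen_iInter_of_finite fun a => hop.preimage (ψ a).left.continuous
  have hB : IsOpen B := (DimFib.isLocallyConstant_dim_geomFibre S C0).isOpen_fiber r
  have hD : IsOpen D := isOpen_iInter_of_finite fun a => (hZcl a.1).isOpen_compl
  -- the sections of `C0` over the points of `A`
  have hψ0 : ∀ t ∈ A, ∀ a, ∃ ψ' : 𝟙_ _ ⟶ Red.geomFibre t C0,
      ψ' ≫ (Over.pullback (Red.geomPt t)).map j = secBc (Red.geomPt t) C (ψ a) := by
    intro t ht a
    have hT5 : (toUnit ((Over.map (Red.geomPt t)).obj (𝟙_ _))).left = Red.geomPt t := by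
      have h6 := Over.w (toUnit ((Over.map (Red.geomPt t)).obj (𝟙_ _)))
      have h7 : (𝟙_ (Over S)).hom = 𝟙 S := rfl
      have h8 : ((Over.map (Red.geomPt t)).obj (𝟙_ _)).hom = 𝟙 _ ≫ Red.geomPt t := rfl
      rw [h7, h8] at h6
      exact (Category.comp_id _).symm.trans (h6.trans (Category.id_comp _))
    obtain ⟨y, hy⟩ := exists_lift (neutral C hop)
      (toUnit ((Over.map (Red.geomPt t)).obj (𝟙_ _)) ≫ ψ a) (fun p => by
        have h1 : (toUnit ((Over.map (Red.geomPt t)).obj (𝟙_ _)) ≫ ψ a).left p = (ψ a).left t := by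
          rw [Over.comp_left, Scheme.Hom.comp_apply, hT5]
          congr 1
          exact geomPt_apply t p
        rw [h1]
        exact Set.mem_iInter.mp ht a)
    exact ⟨bcEquiv (Red.geomPt t) (𝟙_ _) C0 y, by rw [← bcEquiv_comp, hy, secBc_apply]⟩
  have hψ1 : ∀ t ∈ A, ∀ a, ∃ ψ' : 𝟙_ _ ⟶ Red.geomFibre t C0,
      ψ' ≫ (Over.pullback (Red.geomPt t)).map j ≫ (Over.pullback (Red.geomPt t)).map c =
        ((secBc (Red.geomPt t) G).comp φ) a := by
    intro t ht a
    obtain ⟨ψ', hψ'⟩ := hψ0 t ht a
    refine ⟨ψ', ?_⟩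
    rw [← Category.assoc, hψ', secBc_comp, hψ]
    rfl
  have hinjt : ∀ t ∈ D, Function.Injective ((secBc (Red.geomPt t) G).comp φ) := by
    intro t ht
    rw [injective_iff_map_eq_one]
    intro a ha
    by_contra hne
    exact Set.mem_iInter.mp ht ⟨a, hne⟩ ((hZ a t).mpr ha)
  -- the fibres over the open set are tori
  have htor : ∀ t ∈ A, t ∈ B → t ∈ D → Red.IsTorus (Red.geomFibre t C0) := by
    intro t htA htB htD
    have h1 := haff t
    have h2 : LocallyOfFiniteType (Red.geomFibre t G).hom :=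
      inferInstanceAs (LocallyOfFiniteType (pullback.snd G.hom (Red.geomPt t)))
    have h3 : Smooth (Red.geomFibre t C0).hom :=
      inferInstanceAs (Smooth (pullback.snd C0.hom (Red.geomPt t)))
    have h4 : QuasiCompact (Red.geomFibre t C0).hom :=
      inferInstanceAs (QuasiCompact (pullback.snd C0.hom (Red.geomPt t)))
    have h5 : ConnectedSpace (Red.geomFibre t C0).left := by
      have : IrreducibleSpace ↥(pullback C0.hom (Red.geomPt t)) := inferInstance
      exact inferInstanceAs (ConnectedSpace ↥(pullback C0.hom (Red.geomPt t)))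
    refine MtFib.isTorus_of_centralizer ((Over.pullback (Red.geomPt t)).map c)
      ((Over.pullback (Red.geomPt t)).map j) ((secBc (Red.geomPt t) G).comp φ)
      (isCentFin_bc (Red.geomPt t) hCent) (hψ1 t htA) ?_ hn1 (le_of_eq htB) (hinjt t htD)
    exact (hn.of_hom (Red.geomPt t)).isUnit.ne_zero
  -- maximality
  have hmax : ∀ t ∈ A, AlgBc.IsMaxTorOver ((Over.pullback (Red.geomPt t)).map (j ≫ c)) := by
    intro t ht
    rw [Functor.map_comp]
    refine MtFib.isMaxTorOver_of_centralizer ((Over.pullback (Red.geomPt t)).map c)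
      ((Over.pullback (Red.geomPt t)).map j) ((secBc (Red.geomPt t) G).comp φ)
      (isCentFin_bc (Red.geomPt t) hCent) (hψ1 t ht) ?_
    intro X _ x hx
    exact exists_lift_connected C hop t X x hx
  -- the fibre at `s`
  have haffs := haff s
  have hlfts : LocallyOfFiniteType (Red.geomFibre s G).hom :=
    inferInstanceAs (LocallyOfFiniteType (pullback.snd G.hom (Red.geomPt s)))
  have hTor : Red.IsTorus T := RG.BrTorus.isTorus_of_isSplitTorusWith hT
  have hTs : Smooth T.hom := TorusAlgClosed.smooth_of_isTorus hTor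
  have hTa : IsAffineHom T.hom := TorusAlgClosed.isAffineHom_of_isTorus hTor
  have hiq : QuasiCompact i.left := by
    have : QuasiCompact (i.left ≫ (Red.geomFibre s G).hom) := by rw [Over.w]; infer_instance
    exact QuasiCompact.of_comp _ (Red.geomFibre s G).hom
  have hicl : IsClosedImmersion i.left :=
    Groth.Agent.S3036.result (AlgebraicClosure (S.residueField s)) T (Red.geomFibre s G) i
  have hCs' : Smooth (Red.geomFibre s C).hom :=
    inferInstanceAs (Smooth (pullback.snd C.hom (Red.geomPt s)))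
  have hCred : IsReduced (Red.geomFibre s C).left := Flat2B.SmoothGeom.isReduced_of_smooth (Red.geomFibre s C).hom
  have hcs := isCentFin_bc (Red.geomPt s) hCent
  obtain ⟨u, hu⟩ := RG.BrPts.exists_factor i ((Over.pullback (Red.geomPt s)).map c) (fun x => by
    refine hcent _ fun a => ?_
    have h1 := (hcs _ (x ≫ (Over.pullback (Red.geomPt s)).map c)).mp ⟨x, rfl⟩ a
    rw [toUnit_unique (toUnit (𝟙_ _)) (𝟙 _), Category.id_comp] at h1
    exact h1)
  obtain ⟨v, hv⟩ := (hcs T i).mpr (fun a => by
    have h1 : toUnit T ≫ ((secBc (Red.geomPt s) G).comp φ) a = (toUnit T ≫ φT a) ≫ i := by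
      rw [Category.assoc, hφT]
      rfl
    rw [h1]
    have h2 : i = 𝟙 T ≫ i := (Category.id_comp _).symm
    have h3 : (𝟙 T * (toUnit T ≫ φT a)) ≫ i = ((toUnit T ≫ φT a) * 𝟙 T) ≫ i := by
      rw [SplitBc264.torus_comm hTor]
    rw [MonObj.mul_comp, MonObj.mul_comp, Category.id_comp] at h3
    exact h3)
  have huv : u ≫ v = 𝟙 _ := by
    rw [← cancel_mono ((Over.pullback (Red.geomPt s)).map c), Category.assoc, hv, hu,
      Category.id_comp]
  have hvu : v ≫ u = 𝟙 _ := by
    rw [← cancel_mono i, Category.assoc, hu, hv, Category.id_comp]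
  let eT : T ≅ Red.geomFibre s C := ⟨v, u, hvu, huv⟩
  have hTconn : ConnectedSpace T.left := by
    obtain ⟨m, e, he⟩ := RG.BrTorus.isTorus_iff.1 hTor
    have h3 : ConnectedSpace (Books.AffBridge.SpecOver (AlgebraicClosure (S.residueField s))
        (RG.BrTorus.KZ (AlgebraicClosure (S.residueField s)) m)).left := by
      have : IsDomain (RG.BrTorus.KZ (AlgebraicClosure (S.residueField s)) m) :=
        H795.TorusDim.isDomain _ m
      exact inferInstanceAs (ConnectedSpace (PrimeSpectrum
        (RG.BrTorus.KZ (AlgebraicClosure (S.residueField s)) m)))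
    have hei : IsIso e.inv.left := inferInstanceAs (IsIso ((Over.forget _).map e.inv))
    exact e.inv.left.surjective.connectedSpace e.inv.left.continuous
  have hCconn : ConnectedSpace (Red.geomFibre s C).left := by
    have hei : IsIso v.left := ⟨u.left, by rw [← Over.comp_left, hvu]; rfl,
      by rw [← Over.comp_left, huv]; rfl⟩
    exact v.left.surjective.connectedSpace v.left.continuous
  obtain ⟨y, hy⟩ := exists_lift_connected C hop s (Red.geomFibre s C) (𝟙 _)
    ⟨1, Category.comp_id _⟩
  have hy' : y ≫ (Over.pullback (Red.geomPt s)).map j = 𝟙 _ := hy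
  have hsA : s ∈ A := by
    refine Set.mem_iInter.mpr fun a => ?_
    have p : (Spec (CommRingCat.of (AlgebraicClosure (S.residueField s))) : Scheme.{u}) :=
      IsLocalRing.closedPoint (AlgebraicClosure (S.residueField s))
    have h1 := secBc_fst (Red.geomPt s) (ψ a)
    have h2 : (secBc (Red.geomPt s) C (ψ a)).left =
        (secBc (Red.geomPt s) C (ψ a) ≫ y).left ≫ ((Over.pullback (Red.geomPt s)).map j).left := by
      rw [← Over.comp_left, Category.assoc, hy', Category.comp_id]
    have h3 : ((Over.pullback (Red.geomPt s)).map j).left ≫ pullback.fst C.hom (Red.geomPt s) =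
        pullback.fst C0.hom (Red.geomPt s) ≫ j.left := by
      simp
      exact pullback.lift_fst _ _ _
    rw [h2, Category.assoc, h3] at h1
    have h5 : (Red.geomPt s) p = s := geomPt_apply s p
    have h4 : j.left ((pullback.fst C0.hom (Red.geomPt s))
        (((secBc (Red.geomPt s) C (ψ a) ≫ y).left) p)) = (ψ a).left ((Red.geomPt s) p) := by
      rw [← Scheme.Hom.comp_apply, ← Scheme.Hom.comp_apply, h1, Scheme.Hom.comp_apply]
    rw [h5] at h4
    change (ψ a).left s ∈ SGA3x.neutralSet C
    rw [← h4]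
    exact (((pullback.fst C0.hom (Red.geomPt s)) (((secBc (Red.geomPt s) C (ψ a) ≫ y).left) p) :
      C0.left)).2
  have hsB : s ∈ B := by
    have hm : Mono ((Over.pullback (Red.geomPt s)).map j) := inferInstance
    let e0 : Red.geomFibre s C ≅ Red.geomFibre s C0 :=
      ⟨y, (Over.pullback (Red.geomPt s)).map j, hy', by
        rw [← cancel_mono ((Over.pullback (Red.geomPt s)).map j), Category.assoc, hy',
          Category.comp_id, Category.id_comp]⟩
    change topologicalKrullDim ↥(Red.geomFibre s C0).left = r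
    rw [← H795.MaxTorDim.topologicalKrullDim_of_iso e0, ← H795.MaxTorDim.topologicalKrullDim_of_iso eT]
    exact H795.MaxTorDim.topologicalKrullDim_of_split hT
  have hsD : s ∈ D := by
    refine Set.mem_iInter.mpr fun a => ?_
    intro ha
    apply a.2
    have h1 := (hZ a.1 s).mp ha
    have h2 := (hZ 1 s).mp ((hZ 1 s).mpr (by rw [map_one, map_one]))
    apply hinj
    rw [← cancel_mono i, hφT, hφT, h1, h2]
  let W : S.Opens := ⟨(A ∩ B) ∩ D, (hA.inter hB).inter hD⟩
  refine ⟨W, ⟨⟨hsA, hsB⟩, hsD⟩, Red.bc W.ι C0, inferInstance, (Over.pullback W.ι).map (j ≫ c),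
    inferInstance, inferInstance, ?_, fun w => ?_⟩
  · have h3 : Smooth (Red.bc W.ι C0).hom := inferInstanceAs (Smooth (pullback.snd C0.hom W.ι))
    have h4 : QuasiCompact (Red.bc W.ι C0).hom :=
      inferInstanceAs (QuasiCompact (pullback.snd C0.hom W.ι))
    refine hTC (Red.bc W.ι C0) fun w => ?_
    obtain ⟨θ, hθ, hh⟩ := ResAlg.exists_iso_geomPt W.ι w
    exact TorusBc.isTorus_of_iso (BcNat.fibIso hh C0).symm
      (TorusBc.isTorus_bc θ (htor (W.ι w) w.2.1.1 w.2.1.2 w.2.2))
  · exact (AlgBc.isMaxTorOver_geomFibre_bc_iff W.ι w).mpr (hmax (W.ι w) w.2.1.1)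

end Groth.Agent.Sga3.H804.MtNbhd
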