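import Groth.Agent.Books.AffBridge2
import Groth.Agent.Sga3B.RG.BrDiag
import Groth.Agent.Sga3B.TorusEtLoc920
import Groth.Agent.Sga3A.KernelLocal
import Groth.Agent.Sga7.H760.KerBc
import Groth.Agent.Sga3.H804.EtFam

/-!
# The kernel of a homomorphism from a torus to an affine group of finite presentation is flat
-/

set_option autoImplicit false

universe u

open CategoryTheory MonoidalCategory CartesianMonoidalCategory MonObj GrpObj AlgebraicGeometry Limits
open Groth.Agent.Books.AffBridge Groth.Agent.Sga3A TensorProduct Coalgebra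

namespace Groth.Agent.Sga3.H804.QaKer

/-- The ideal of the kernel of a homomorphism is a coideal. -/
theorem isCoideal_map_ker {R A C : Type u} [CommRing R] [CommRing A] [CommRing C] [Bialgebra R A]
    [Bialgebra R C] (φ : C →ₐc[R] A) :
    ((Ideal.map (φ : C →+* A) (RingHom.ker (Bialgebra.counitAlgHom R C))).restrictScalars R).IsCoideal := by
  set J := Ideal.map (φ : C →+* A) (RingHom.ker (Bialgebra.counitAlgHom R C)) with hJ
  constructor
  · intro x hx
    have h1 : J ≤ RingHom.ker (Bialgebra.counitAlgHom R A) := by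
      rw [hJ, Ideal.map_le_iff_le_comap]
      intro c hc
      have h2 : counit (R := R) c = 0 := hc
      rw [Ideal.mem_comap, RingHom.mem_ker]
      change counit (R := R) (φ c) = 0
      rw [CoalgHomClass.counit_comp_apply, h2]
    exact h1 hx
  · intro x hx
    let q : A →ₐ[R] A ⧸ J := Ideal.Quotient.mkₐ R J
    let D : A →ₐ[R] (A ⧸ J) ⊗[R] (A ⧸ J) :=
      (Algebra.TensorProduct.map q q).comp (Bialgebra.comulAlgHom R A)
    have hq : ∀ c : C, q (φ c) = algebraMap R (A ⧸ J) (counit (R := R) c) := by
      intro c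
      have h2 : φ (c - algebraMap R C (counit (R := R) c)) ∈ J := by
        refine Ideal.mem_map_of_mem _ ?_
        rw [RingHom.mem_ker, map_sub, AlgHom.commutes]
        simp
      rw [map_sub, AlgHomClass.commutes] at h2
      exact (Ideal.Quotient.eq).mpr h2
    have h1 : J ≤ RingHom.ker D := by
      refine Ideal.map_le_iff_le_comap.mpr ?_
      intro c hc
      have h2 : counit (R := R) c = 0 := hc
      rw [Ideal.mem_comap, RingHom.mem_ker]
      change TensorProduct.map q.toLinearMap q.toLinearMap (comul (R := R) (φ c)) = 0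
      rw [← CoalgHomClass.map_comp_comul_apply, ← (ℛ R c).eq, map_sum, map_sum]
      simp only [TensorProduct.map_tmul]
      have h3 : ∀ c' : C, q.toLinearMap ((φ : C →ₗ[R] A) c') =
          counit (R := R) c' • (1 : A ⧸ J) := by
        intro c'
        rw [← Algebra.algebraMap_eq_smul_one]
        exact hq c'
      simp only [h3, TensorProduct.smul_tmul', TensorProduct.tmul_smul, smul_smul]
      rw [← TensorProduct.sum_tmul, ← Finset.sum_smul]
      have h4 := congrArg (counit (R := R)) (Coalgebra.sum_counit_smul (ℛ R c))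
      simp only [map_sum, map_smul, smul_eq_mul] at h4
      have h5 : ∑ i ∈ (ℛ R c).index, counit (R := R) ((ℛ R c).right i) *
          counit (R := R) ((ℛ R c).left i) = 0 := by
        rw [← h2, ← h4]
        exact Finset.sum_congr rfl fun i _ => _root_.mul_comm _ _
      rw [h5, zero_smul, TensorProduct.zero_tmul]
    have h2 : D x = 0 := h1 hx
    let e := Submodule.Quotient.restrictScalarsEquiv R J
    have h3 : TensorProduct.map (J.restrictScalars R).mkQ (J.restrictScalars R).mkQ =
        (TensorProduct.map e.symm.toLinearMap e.symm.toLinearMap) ∘ₗ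
          (TensorProduct.map q.toLinearMap q.toLinearMap) := by
      rw [← TensorProduct.map_comp]
      rfl
    rw [h3, LinearMap.comp_apply]
    change TensorProduct.map e.symm.toLinearMap e.symm.toLinearMap (D x) = 0
    rw [h2, map_zero]

open Bialgebra in
/-- The coordinate ring of the kernel is flat. -/
theorem flat_quotient {R C : Type u} [CommRing R] [CommRing C] [Bialgebra R C] {M : Type}
    [CommGroup M] [Group.FG M] (φ : C →ₐc[R] MonoidAlgebra R M)
    (hfg : (RingHom.ker (counitAlgHom R C)).FG) :
    Module.Flat R (MonoidAlgebra R M ⧸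
      Ideal.map (φ : C →+* MonoidAlgebra R M) (RingHom.ker (counitAlgHom R C))) := by
  set J := Ideal.map (φ : C →+* MonoidAlgebra R M) (RingHom.ker (counitAlgHom R C)) with hJ
  have hco : (J.restrictScalars R).IsCoideal := isCoideal_map_ker φ
  let π : MonoidAlgebra R M →ₐc[R] MonoidAlgebra R M ⧸ J := Bialgebra.Quotient.mkBialgHom J
  have hπ : Function.Surjective π := Ideal.Quotient.mk_surjective
  have hker : RingHom.ker (π : MonoidAlgebra R M →+* MonoidAlgebra R M ⧸ J) = J := Ideal.mk_ker
  refine Module.flat_of_isLocalized_maximal (R := R) R (MonoidAlgebra R M ⧸ J)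
    (fun P _ => Localization.AtPrime P ⊗[R] (MonoidAlgebra R M ⧸ J))
    (fun P _ => TensorProduct.mk R (Localization.AtPrime P) (MonoidAlgebra R M ⧸ J) 1)
    fun P hP => ?_
  obtain ⟨f, hf, N, h⟩ := KernelLocal.exists_local φ π hfg hπ (hker.trans hJ) ⟨P, hP.isPrime⟩
  obtain ⟨e⟩ := h (Localization.AtPrime P)
    (IsLocalization.map_units (M := P.primeCompl) (Localization.AtPrime P) ⟨f, hf⟩)
  have h1 : Module.Flat (Localization.AtPrime P)
      (Localization.AtPrime P ⊗[R] (MonoidAlgebra R M ⧸ J)) := by
    have h2 : Module.Flat (Localization.AtPrime P) (MonoidAlgebra (Localization.AtPrime P) (M ⧸ N)) :=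
      inferInstance
    let e' : (Localization.AtPrime P ⊗[R] (MonoidAlgebra R M ⧸ J)) ≃ₗ[Localization.AtPrime P]
        MonoidAlgebra (Localization.AtPrime P) (M ⧸ N) :=
      { toFun := e, invFun := e.symm, left_inv := e.left_inv, right_inv := e.right_inv,
        map_add' := map_add e, map_smul' := map_smul e }
    exact Module.Flat.of_linearEquiv e'
  exact Module.Flat.trans R (Localization.AtPrime P) _

/-- **The kernel of a homomorphism from a split torus is flat**, affine base. -/
theorem flat_ker_split {R : Type u} [CommRing R] {T H : Over (Spec (CommRingCat.of R))} [GrpObj T]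
    [GrpObj H] {r : ℕ} (hT : Red.IsSplitTorusWith (Fin r → ℤ) T) [IsAffine H.left]
    [LocallyOfFinitePresentation H.hom] (f : T ⟶ H) [IsMonHom f] : Flat (pullback f η[H]).hom := by
  obtain ⟨eT, heT⟩ := Sga3B.RG.BrDiag.isSplitTorusWith_iff.1 hT
  obtain ⟨C, _, _, eH, heH⟩ := exists_hopf R H
  have hT' : IsMonHom eT.inv := inferInstance
  have hH' : IsMonHom eH.inv := inferInstance
  obtain ⟨φ, hφ⟩ := exists_bialgHom_of_isMonHom R (eT.inv ≫ f ≫ eH.hom)
  let A := MonoidAlgebra R (Multiplicative (Fin r → ℤ))
  let J : Ideal A := Ideal.map (φ : C →+* A) (RingHom.ker (Bialgebra.counitAlgHom R C))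
  have hC : Algebra.FinitePresentation R C := by
    have h1 : LocallyOfFinitePresentation (SpecOver R C).hom := by
      rw [← Over.w eH.inv]
      infer_instance
    have h2 : LocallyOfFinitePresentation (Spec.map (CommRingCat.ofHom (algebraMap R C))) := h1
    rw [HasRingHomProperty.Spec_iff (P := @LocallyOfFinitePresentation)] at h2
    rwa [CommRingCat.hom_ofHom, RingHom.finitePresentation_algebraMap] at h2
  have hfg : (RingHom.ker (Bialgebra.counitAlgHom R C)).FG :=
    Algebra.FinitePresentation.ker_fG_of_surjective (Bialgebra.counitAlgHom R C)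
      (fun r => ⟨algebraMap R C r, by simp⟩)
  have hfl : Module.Flat R (A ⧸ J) := flat_quotient φ hfg
  have hker : AlgGrp.IsKernel (specMap R (Ideal.Quotient.mkₐ R J)) (specMap R (φ : C →ₐ[R] A)) :=
    Books.AffBridge2.isKernel_specMap R (φ : C →ₐ[R] A) J rfl
  have hpb : IsPullback (specMap R (Ideal.Quotient.mkₐ R J) ≫ eT.inv) (toUnit _) f η[H] := by
    refine IsPullback.of_iso hker (Iso.refl _) eT.symm (Iso.refl _) eH.symm ?_ ?_ ?_ ?_
    · simp
    · simp
    · rw [hφ]
      simp
    · rw [Iso.symm_hom, Iso.refl_hom, Category.id_comp]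
      exact IsMonHom.one_hom eH.inv
  have h1 : (pullback f η[H]).hom = hpb.isoPullback.inv.left ≫
      (SpecOver R (A ⧸ J)).hom := (Over.w _).symm
  have h2 : Flat (SpecOver R (A ⧸ J)).hom := by
    have h3 : Flat (Spec.map (CommRingCat.ofHom (algebraMap R (A ⧸ J)))) := by
      rw [HasRingHomProperty.Spec_iff (P := @Flat)]
      simp only [CommRingCat.hom_ofHom, RingHom.flat_algebraMap_iff]
      exact hfl
    exact h3
  rw [h1]
  infer_instance

lemma isKernel_pullback {S : Scheme.{u}} {T H : Over S} [GrpObj H] (f : T ⟶ H) :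
    AlgGrp.IsKernel (pullback.fst f η[H]) f := by
  have h := IsPullback.of_hasPullback f (η[H] : 𝟙_ (Over S) ⟶ H)
  rwa [toUnit_unique (pullback.snd f η[H]) (toUnit _)] at h

/-- **The kernel of a homomorphism from a torus to an affine group of finite presentation is
flat.** -/
theorem flat_ker {S : Scheme.{u}} {W T H : Over S} [GrpObj T] [GrpObj H] (hT : Red.IsTorus T)
    [IsAffineHom H.hom] [LocallyOfFinitePresentation H.hom] (f : T ⟶ H) [IsMonHom f] {k : W ⟶ T}
    (hk : AlgGrp.IsKernel k f) : Flat W.hom := by
  choose B i1 v r hv hs hsp using fun s : S => Sga3B.TorusEtLoc920.exists_etale_split T hT s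
  refine EtFam.flat_of_etale_family W.hom (fun s : S => Spec (CommRingCat.of (B s))) v hv
    (fun s => ⟨s, hs s⟩) (fun s => IsPullback.of_hasPullback W.hom (v s)) fun s => ?_
  have h1 : IsAffine (Red.bc (v s) H).left := by
    have : IsAffineHom (Red.bc (v s) H).hom := inferInstanceAs (IsAffineHom (pullback.snd H.hom (v s)))
    exact isAffine_of_isAffineHom (Red.bc (v s) H).hom
  have h2 : LocallyOfFinitePresentation (Red.bc (v s) H).hom :=
    inferInstanceAs (LocallyOfFinitePresentation (pullback.snd H.hom (v s)))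
  have h3 := flat_ker_split (hsp s) ((Over.pullback (v s)).map f)
  obtain ⟨e, -⟩ := Sga7.H760.KerBc.exists_iso (Sga7.H760.KerBc.isKernel_bc (v s) hk)
    (isKernel_pullback (H := Red.bc (v s) H) ((Over.pullback (v s)).map f))
  have h4 : ((Over.pullback (v s)).obj W).hom = e.hom.left ≫
      (pullback ((Over.pullback (v s)).map f) η[Red.bc (v s) H]).hom := (Over.w _).symm
  change Flat ((Over.pullback (v s)).obj W).hom
  rw [h4]
  infer_instance

end Groth.Agent.Sga3.H804.QaKer
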