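import Groth.Agent.Sga3.H804.QaKer
import Groth.Agent.Flat2B.MonoRep
import Groth.Agent.Ega2.QuasiAffine
import Groth.Agent.Etbase.FpqcDescent
import Groth.Agent.Sga3B.MaxTorBc636

/-!
# Groups with a linear representation with central kernel, and with a torus equal to its centralizer, are
quasi-affine
-/

set_option autoImplicit false

universe u

open CategoryTheory MonoidalCategory CartesianMonoidalCategory MonObj GrpObj AlgebraicGeometry Limits

namespace Groth.Agent.Sga3.H804.QaMain

open Groth.Agent.Sga7.H760.KerBc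

variable {S : Scheme.{u}}

lemma qaff_of_isAffineHom {X Y : Scheme.{u}} (f : X ⟶ Y) [IsAffineHom f] : Mor2.IsQuasiAffine f := by
  refine ⟨inferInstance, fun V hV => ?_⟩
  have h1 : IsAffine (f ⁻¹ᵁ V : Scheme.{u}) := hV.preimage f
  infer_instance

lemma quasiCompact_of_surjective {X Y Z : Scheme.{u}} (f : X ⟶ Y) (g : Y ⟶ Z) [Surjective f]
    [QuasiCompact (f ≫ g)] : QuasiCompact g := by
  refine ⟨fun V hVo hV => ?_⟩
  have h1 := (f ≫ g).isCompact_preimage (U := ⟨V, hVo⟩) hV
  have h2 : (g : Y → Z) ⁻¹' V = (f : X → Y) '' ((f ≫ g : X ⟶ Z) ⁻¹' V) := by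
    ext y
    constructor
    · intro hy
      obtain ⟨x, rfl⟩ := f.surjective y
      exact ⟨x, hy, rfl⟩
    · rintro ⟨x, hx, rfl⟩
      exact hx
  rw [h2]
  exact h1.image f.continuous

/-- A group which is an extension of a subgroup of an affine group by an affine flat kernel is quasi-affine
(given the quotient). -/
theorem isQuasiAffine_of_quotient {G H Q : Over S} [GrpObj G] [GrpObj H] [GrpObj Q]
    [QuasiCompact G.hom] [IsAffineHom H.hom] (p : G ⟶ Q) (j : Q ⟶ H) [IsMonHom p] [Mono j]
    [Surjective p.left] [Flat p.left] [LocallyOfFinitePresentation p.left]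
    [LocallyOfFinitePresentation Q.hom] {K : Over S} {k : K ⟶ G} (hk : AlgGrp.IsKernel k p)
    (hK : IsAffineHom K.hom) : Mor2.IsQuasiAffine G.hom := by
  -- `p` is affine
  have h0 : IsAffineHom (pullback.snd p.left (η[Q] : 𝟙_ (Over S) ⟶ Q).left) := by
    obtain ⟨e, -⟩ := exists_iso (isKernel_kerι p) hk
    have h1 : (Sga3B.KerGrp.kerObj p).hom = e.hom.left ≫ K.hom := (Over.w _).symm
    change IsAffineHom (Sga3B.KerGrp.kerObj p).hom
    rw [h1]
    infer_instance
  have hp : IsAffineHom p.left := by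
    obtain ⟨d, hd⟩ := Sga3C.KerSquare.isPullback_fst_ker p
    have h1 : IsAffineHom (pullback.fst p.left p.left) :=
      MorphismProperty.of_isPullback (P := @IsAffineHom) hd.flip h0
    exact MorphismProperty.of_pullback_fst_of_descendsAlong (P := @IsAffineHom)
      (Q := @Surjective ⊓ @Flat ⊓ @LocallyOfFinitePresentation) (f := p.left) (g := p.left)
      ⟨⟨inferInstance, inferInstance⟩, inferInstance⟩ h1
  -- `j` is quasi-affine
  have hQc : QuasiCompact Q.hom := by
    have h1 : QuasiCompact (p.left ≫ Q.hom) := by rw [Over.w]; infer_instance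
    exact quasiCompact_of_surjective p.left Q.hom
  have hjl : LocallyOfFiniteType j.left := by
    have : LocallyOfFiniteType (j.left ≫ H.hom) := by rw [Over.w]; infer_instance
    exact locallyOfFiniteType_of_comp j.left H.hom
  have hjq : QuasiCompact j.left := by
    have : QuasiCompact (j.left ≫ H.hom) := by rw [Over.w]; infer_instance
    exact QuasiCompact.of_comp j.left H.hom
  have hj : Mor2.IsQuasiAffine j.left := Flat2B.MonoRep.isQuasiAffine_of_mono j.left
  have hH : Mor2.IsQuasiAffine H.hom := qaff_of_isAffineHom H.hom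
  have hQ : Mor2.IsQuasiAffine Q.hom := by
    rw [← Over.w j]
    exact Ega2.QuasiAffine.qaff_comp _ _ hj hH
  rw [← Over.w p]
  exact Ega2.QuasiAffine.qaff_comp _ _ (qaff_of_isAffineHom p.left) hQ

/-- **Quasi-affineness** of a group with a representation with central kernel and a torus equal to its
centralizer (given the existence of quotients by flat kernels). -/
theorem isQuasiAffine_of_rep (hquot : ∀ (G H : Over S) [GrpObj G] [GrpObj H]
      [LocallyOfFinitePresentation G.hom] [LocallyOfFiniteType H.hom] (u : G ⟶ H) [IsMonHom u]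
      (_ : Flat (pullback u η[H]).hom),
      ∃ (Q : Over S) (_ : GrpObj Q) (p : G ⟶ Q) (i : Q ⟶ H), IsMonHom p ∧ IsMonHom i ∧ p ≫ i = u ∧
        Surjective p.left ∧ Flat p.left ∧ LocallyOfFinitePresentation p.left ∧ Mono i ∧
        LocallyOfFinitePresentation Q.hom ∧ AlgGrp.IsKernel (pullback.fst u η[H]) p)
    {G T H : Over S} [GrpObj G] [GrpObj T] [GrpObj H] [LocallyOfFinitePresentation G.hom]
    [QuasiCompact G.hom] [IsAffineHom H.hom] [LocallyOfFinitePresentation H.hom]
    (i : T ⟶ G) (hT : Red.IsTorus T) (hi : IsMonHom i) (hm : Mono i)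
    (hc : Sga3B.MaxTorBc636.SelfC i)
    (ρ : G ⟶ H) [IsMonHom ρ] (hρ : ∀ (X : Over S) (x y : X ⟶ G), x ≫ ρ = 1 → x * y = y * x) :
    Mor2.IsQuasiAffine G.hom := by
  obtain ⟨z, hz⟩ := hc _ (Sga3B.KerGrp.kerι ρ) (fun X' x h => by
    refine hρ X' _ _ ?_
    rw [Category.assoc, Sga3B.KerGrp.kerι_comp, MonObj.comp_one])
  have hzk : AlgGrp.IsKernel z (i ≫ ρ) := by
    rw [isKernel_iff]
    refine ⟨?_, fun X g hg => ?_⟩
    · rw [← Category.assoc, hz, Sga3B.KerGrp.kerι_comp]
    · obtain ⟨y, hy⟩ := Sga3B.KerGrp.exists_lift ρ (g ≫ i) (by rw [Category.assoc, hg])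
      refine ⟨y, ?_, fun y' hy' => ?_⟩
      · change y ≫ z = g
        rw [← cancel_mono i, Category.assoc, hz, hy]
      · have h1 : y' ≫ z = g := hy'
        rw [← cancel_mono (Sga3B.KerGrp.kerι ρ), hy, ← hz, ← Category.assoc, h1]
  have hKf : Flat (Sga3B.KerGrp.kerObj ρ).hom := QaKer.flat_ker hT (i ≫ ρ) hzk
  have hTa : IsAffineHom T.hom := Sga3B.TorusAlgClosed.isAffineHom_of_isTorus hT
  have hza : IsAffineHom z.left := by
    obtain ⟨e, he⟩ := exists_iso hzk (isKernel_kerι (i ≫ ρ))
    have h1 : z.left = e.hom.left ≫ (Sga3B.KerGrp.kerι (i ≫ ρ)).left := by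
      rw [← he]; rfl
    rw [h1]
    infer_instance
  have hKa : IsAffineHom (Sga3B.KerGrp.kerObj ρ).hom := by
    rw [← Over.w z]
    infer_instance
  obtain ⟨e, he⟩ := exists_iso (isKernel_kerι ρ) (QaKer.isKernel_pullback ρ)
  have hKf' : Flat (pullback ρ η[H]).hom := by
    have h1 : (pullback ρ η[H]).hom = e.inv.left ≫ (Sga3B.KerGrp.kerObj ρ).hom := (Over.w _).symm
    rw [h1]
    infer_instance
  have hKa' : IsAffineHom (pullback ρ η[H]).hom := by
    have h1 : (pullback ρ η[H]).hom = e.inv.left ≫ (Sga3B.KerGrp.kerObj ρ).hom := (Over.w _).symm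
    rw [h1]
    infer_instance
  obtain ⟨Q, _, p, j, hp, hj, hpj, hps, hpf, hpl, hjm, hQl, hk⟩ := hquot G H ρ hKf'
  exact isQuasiAffine_of_quotient p j hk hKa'

end Groth.Agent.Sga3.H804.QaMain
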