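import Groth.Agent.Agf.H609.MaxTorSch
import Groth.Agent.Agf.H614.AlgDict
import Groth.Agent.Agf.H593.UnipRad
import Groth.Agent.Sga3B.RG.PbBorel
import Groth.Agent.Sga3B.MaxTorBc636

/-!
# The image of a self-centralizing maximal torus in a quotient by a central subgroup of the torus

`K` algebraically closed.  If `G ⟶ Q` is surjective with kernel contained in the torus `T` of `G`, and `T` is its
own centralizer, the image of `T` in `Q` is its own centralizer.
-/

set_option autoImplicit false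

universe u

open CategoryTheory MonoidalCategory CartesianMonoidalCategory MonObj GrpObj AlgebraicGeometry Limits
open Groth.Agent.Books.AffBridge Groth.Agent.Books.AffBridge2

namespace Groth.Agent.Sga3.H804.RtField

open Groth.Agent.Sga3B Groth.Agent.Sga3B.RG Groth.Agent.Sga3B.RG.BrPts Groth.Agent.Sga3B.RG.BrTorus
open Groth.Agent.Books.AlgPts Groth.Agent.Books.AlgPtsGrp Groth.Agent.Books.AlgPtsSmooth
open Groth.Agent.Sga3B.Parab.BorelPts172 Groth.Agent.Agf.H614 Groth.Agent.Agf.H614.AlgDict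
open Groth.Agent.Sga3B.MaxTorBc636

section Pts

variable {K : Type u} [Field K] [IsAlgClosed K] {A : Type u} [CommRing A] [HopfAlgebra K A]
  [Algebra.FiniteType K A] [IsDomain A] {C : Type u} [CommRing C] [HopfAlgebra K C]
  [Algebra.FiniteType K C] [IsDomain C]

/-- The points form. -/
theorem centralizer_map_le (φ : C →ₐc[K] A) (hφ : Function.Surjective (Pt.map (K := K) φ))
    {T : Subgroup (Pt K A)} (hT : IsMaxTorusSub T)
    (hc : Subgroup.centralizer (T : Set (Pt K A)) ≤ T) (hker : (Pt.map (K := K) φ).ker ≤ T) :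
    Subgroup.centralizer ((T.map (Pt.map φ) : Subgroup (Pt K C)) : Set (Pt K C)) ≤
      T.map (Pt.map φ) := by
  have hT' := Groth.Agent.Agf.H609.MaxTorImg.isMaxTorusSub_map φ hφ hT
  obtain ⟨B, hB, hTB⟩ := (BorConj838.isCCS_of_isTorusSub hT.1).exists_isBorelPt
  have hcomm : ∀ x ∈ T, ∀ y ∈ T, x * y = y * x := fun x hx y hy =>
    Groth.Agent.Agf.H609.MaxTorImg.commute_of_mem hT.1 hx hy
  have hsol : Group.IsSolvable (Pt.map (K := K) φ).ker := by
    have h1 := (BorConj838.isCCS_of_isTorusSub hT.1).isSolvable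
    exact Group.isSolvable_of_isSolvable_injective (Subgroup.inclusion_injective hker)
  have hB' := Groth.Agent.Agf.H593.UnipRad.isBorelPt_map_of_ker_le hφ hsol hB
  have hle := CentPt.centralizer_le hT' hB' (Subgroup.map_mono hTB)
  intro y hy
  obtain ⟨b, hb, rfl⟩ := hle hy
  refine ⟨b, hc ?_, rfl⟩
  rw [Subgroup.mem_centralizer_iff]
  intro t ht
  have h1 : IsUnip (b * t * b⁻¹ * t⁻¹) := PbBorel.isUnip_commutator hB.toIsCCS hb (hTB ht)
  have h2 : b * t * b⁻¹ * t⁻¹ ∈ T := by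
    apply hker
    rw [MonoidHom.mem_ker]
    have h3 := (Subgroup.mem_centralizer_iff.1 hy) (Pt.map φ t) ⟨t, ht, rfl⟩
    simp only [map_mul, map_inv]
    rw [← h3]
    group
  have h4 := Groth.Agent.Agf.H609.MaxTorImg.eq_one_of_isUnip_of_mem hT.1 h2 h1
  have h5 : b * t * b⁻¹ * t⁻¹ * (t * b) = t * b := by rw [h4, _root_.one_mul]
  rw [← h5]
  group

end Pts

variable {K : Type u} [Field K] [IsAlgClosed K] {G Q T T' : Over (Spec (CommRingCat.of K))} [GrpObj G] [GrpObj Q]
  [GrpObj T] [GrpObj T']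

/-- The scheme form. -/
theorem selfC_of_quotient [IsAffine G.left] [Smooth G.hom] [ConnectedSpace G.left] [IsAffine Q.left]
    [Smooth Q.hom] (p : G ⟶ Q) [IsMonHom p] [Surjective p.left] (i : T ⟶ G) [IsMonHom i] [Mono i]
    (hT : Red.IsTorus T) (hc : SelfC i)
    (hker : ∀ g : 𝟙_ (Over (Spec (CommRingCat.of K))) ⟶ G, g ≫ p = 1 → ∃ z, z ≫ i = g)
    (τ : T' ⟶ Q) [IsMonHom τ] [Mono τ] (hT' : Red.IsTorus T') (π : T ⟶ T') [Surjective π.left]
    (hπ : π ≫ τ = i ≫ p) : SelfC τ := by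
  have hQc : ConnectedSpace Q.left := p.left.surjective.connectedSpace p.left.continuous
  obtain ⟨A, _, _, eG, heG, hftA, hdomA⟩ := FieldGlue.exists_hopf_domain G
  obtain ⟨C, _, _, eQ, heQ, hftC, hdomC⟩ := FieldGlue.exists_hopf_domain Q
  have heG' : IsMonHom eG.inv := inferInstance
  obtain ⟨φ, hφ⟩ := exists_bialgHom_of_isMonHom K (eG.inv ≫ p ≫ eQ.hom)
  have hisoG : IsIso eG.inv.left := inferInstanceAs (IsIso ((Over.forget _).map eG.inv))
  have hisoQ : IsIso eQ.hom.left := inferInstanceAs (IsIso ((Over.forget _).map eQ.hom))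
  have hsurj : Surjective (specMap K (φ : C →ₐ[K] A)).left := by
    rw [hφ, Over.comp_left, Over.comp_left]
    infer_instance
  have hs := Groth.Agent.Agf.H609.MaxTorSch.surjective_map_of_surjective φ
  have hTmax : AGF.IsMaxTorus i := ⟨inferInstance, inferInstance, hT, isMaxTorOver_of_selfC hc⟩
  have hmax : IsMaxTorusSub (ptsSub (i ≫ eG.hom)) := isMaxTorusSub eG hTmax
  have hTs : Smooth T.hom := TorusAlgClosed.smooth_of_isTorus hT
  have hTs' : Smooth T'.hom := TorusAlgClosed.smooth_of_isTorus hT'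
  -- points of the kernel
  have hcomp : ∀ x : Pt K A, (pt eQ).symm (Pt.map φ x) = (pt eG).symm x ≫ p := by
    intro x
    rw [← cancel_mono eQ.hom, pt_symm_comp, ptEquiv_map, hφ, Category.assoc, ← pt_symm_comp eG x]
    simp only [Category.assoc, Iso.hom_inv_id_assoc]
  have hk : (Pt.map (K := K) φ).ker ≤ ptsSub (i ≫ eG.hom) := by
    intro x hx
    rw [mem_ptsSub_comp_iff]
    refine hker _ ?_
    rw [← hcomp, (MonoidHom.mem_ker).1 hx, map_one]
  -- the centralizer of `T`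
  have hcc : Subgroup.centralizer (ptsSub (i ≫ eG.hom) : Set (Pt K A)) ≤ ptsSub (i ≫ eG.hom) := by
    intro g hg
    obtain ⟨n, eT, heT⟩ := isTorus_iff.1 hT
    obtain ⟨Z, _, j, hj, -, -⟩ := BrCent.exists_isCentralizerOf eT i
    obtain ⟨z, hz⟩ := exists_pt_of_commute hj ((pt eG).symm g) (fun x => by
      apply (pt eG).injective
      rw [map_mul, map_mul, MulEquiv.apply_symm_apply]
      exact ((Subgroup.mem_centralizer_iff.1 hg) _ (pt_comp_mem eG i x)).symm)
    rw [mem_ptsSub_comp_iff]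
    exact hc _ _ ((hj.2.2 _ _).1 ⟨z, hz⟩)
  have key := centralizer_map_le φ hs hmax hcc hk
  -- the image
  have himg : (ptsSub (i ≫ eG.hom)).map (Pt.map φ) ≤ ptsSub (τ ≫ eQ.hom) := by
    rintro _ ⟨x, hx, rfl⟩
    obtain ⟨t, ht⟩ := (mem_ptsSub_comp_iff eG i x).1 hx
    rw [mem_ptsSub_comp_iff]
    exact ⟨t ≫ π, by rw [hcomp, ← ht, Category.assoc, Category.assoc, hπ]⟩
  have himg' : ptsSub (τ ≫ eQ.hom) ≤ (ptsSub (i ≫ eG.hom)).map (Pt.map φ) := by
    intro y hy
    obtain ⟨t', ht'⟩ := (mem_ptsSub_comp_iff eQ τ y).1 hy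
    obtain ⟨t, ht⟩ := Groth.Agent.Agf.H609.MaxTorSch.exists_lift_pt π t'
    refine ⟨pt eG (t ≫ i), pt_comp_mem eG i t, ?_⟩
    apply (pt eQ).symm.injective
    rw [hcomp, MulEquiv.symm_apply_apply, ← ht', ← ht, Category.assoc, Category.assoc, hπ]
  have heq : ptsSub (τ ≫ eQ.hom) = (ptsSub (i ≫ eG.hom)).map (Pt.map φ) := le_antisymm himg' himg
  have hcl : IsClosedImmersion τ.left := AlgDict.isClosedImmersion_of_isTorus eQ τ hT'
  obtain ⟨n, eT', heT'⟩ := isTorus_iff.1 hT'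
  obtain ⟨Z, _, j, hj, -, -⟩ := BrCent.exists_isCentralizerOf eT' τ
  obtain ⟨f, hf⟩ := exists_factor_of_isCentralizerOf τ hT' j hj τ (fun g hg => by
    rw [← pt_mem_ptsSub_iff eQ]
    rw [heq]
    apply key
    rw [← heq, Subgroup.mem_centralizer_iff]
    intro x hx
    obtain ⟨t', ht'⟩ := (mem_ptsSub_comp_iff eQ τ x).1 hx
    have h1 := congrArg (pt eQ) (hg t')
    rw [map_mul, map_mul, ht', MulEquiv.apply_symm_apply] at h1
    exact h1.symm)
  intro X g hg
  obtain ⟨y, hy⟩ := (hj.2.2 X g).2 hg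
  exact ⟨y ≫ f, by rw [Category.assoc, hf, hy]⟩

end Groth.Agent.Sga3.H804.RtField
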