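import Groth.Agent.Sga3.H804.RtQuot
import Groth.Agent.Sga3.H804.Asm
import Groth.Agent.Sga3.H812.RepGen
import Groth.Agent.Sga3.H813.ConjToBy
import Groth.Agent.Sga3.H819.EqTrans
import Groth.Agent.Sga3.H828.MTHypSep
import Groth.Agent.Sga3B.TorusEtSplit
import Groth.Agent.S4116

/-!
# Representability of the functor of maximal tori of a group of unipotent rank zero

From the local existence of the quotient of `G/K` by the normalizer of `T/K` (`QLoc`).
-/

set_option autoImplicit false

universe u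

open CategoryTheory MonoidalCategory CartesianMonoidalCategory MonObj GrpObj AlgebraicGeometry Limits

namespace Groth.Agent.Sga3.H804.RtMain

open Groth.Agent.Sga3B Groth.Agent.Sga3B.MaxTorBc636 Groth.Agent.Sga3B.BcPts Groth.Agent.Sga3B.GLn
  Groth.Agent.Sga3.H812.RepGlob

/-- Local existence of the quotient of a linear group by the normalizer of a self-centralizing split torus. -/
def QLoc : Prop := ∀ {R : Type u} [CommRing R] {m : Type u} [Fintype m] [DecidableEq m]
  {Q : Over (Spec (CommRingCat.of R))} [GrpObj Q] [Smooth Q.hom] [IsSeparated Q.hom] [QuasiCompact Q.hom]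
  (ρ : Q ⟶ GLS m (Spec (CommRingCat.of R))) [IsMonHom ρ] [Mono ρ] {r : ℕ}
  (τ : Red.DS (Spec (CommRingCat.of R)) (Fin r → ℤ) ⟶ Q) [IsMonHom τ] [Mono τ] (_ : SelfC τ)
  (s : Spec (CommRingCat.of R)),
  ∃ (V : Scheme.{u}) (v : V ⟶ Spec (CommRingCat.of R)), Etale v ∧ s ∈ Set.range v ∧
    ∃ (𝒯 : Over V) (q : Red.bc v Q ⟶ 𝒯), Smooth 𝒯.hom ∧ IsAffineHom 𝒯.hom ∧ Smooth q.left ∧
      Surjective q.left ∧ Groth.Agent.Sga3.H813.RepCrit.EQ ((Over.pullback v).map τ) q

variable {S S' : Scheme.{u}}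

/-- The condition that `T` is the preimage of `T'` is stable under base change. -/
lemma mem_iff_bc (v : S' ⟶ S) {G Q T T' : Over S} {i : T ⟶ G} {p : G ⟶ Q} {τ : T' ⟶ Q}
    (hp : ∀ (X : Over S) (x : X ⟶ G), (∃ t, t ≫ i = x) ↔ ∃ t, t ≫ τ = x ≫ p)
    (X : Over S') (x : X ⟶ Red.bc v G) :
    (∃ t, t ≫ (Over.pullback v).map i = x) ↔
      ∃ t, t ≫ (Over.pullback v).map τ = x ≫ (Over.pullback v).map p := by
  obtain ⟨g, rfl⟩ := (bcEquiv v X G).surjective x
  rw [Groth.Agent.Redsub.H649.ConjLoc.exists_bc_iff, hp, ← bcEquiv_comp,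
    Groth.Agent.Redsub.H649.ConjLoc.exists_bc_iff]

/-- Base change of a faithful representation. -/
lemma exists_bc_mono (v : S' ⟶ S) {m : Type u} [Fintype m] [DecidableEq m] {Q : Over S} [GrpObj Q]
    (j : Q ⟶ GLS m S) [IsMonHom j] [Mono j] : ∃ j' : Red.bc v Q ⟶ GLS m S', IsMonHom j' ∧ Mono j' := by
  obtain ⟨j', hj', hm⟩ := H819.BcGL.exists_bc v j
  refine ⟨j', hj', ⟨fun {X} x y hxy => ?_⟩⟩
  apply (bcEquiv v X Q).symm.injective
  rw [← cancel_mono j]
  apply H819.BcGL.matO_injective v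
  rw [← hm, ← hm, hxy]

/-- The case of a split torus over an affine base. -/
theorem rep_of_split (hQ : QLoc.{u}) {R : Type u} [CommRing R] {G T Q : Over (Spec (CommRingCat.of R))}
    [GrpObj G] [GrpObj T] [GrpObj Q] [Smooth G.hom] [QuasiCompact G.hom] [IsSeparated G.hom] (i : T ⟶ G)
    (hi : Red.IsMaximalTorus i) [Smooth Q.hom] [QuasiCompact Q.hom] [IsSeparated Q.hom] (p : G ⟶ Q)
    [IsMonHom p] [Flat p.left] [Surjective p.left] [LocallyOfFinitePresentation p.left] {m : Type u}
    [Fintype m] [DecidableEq m] (j : Q ⟶ GLS m (Spec (CommRingCat.of R))) [IsMonHom j] [Mono j] {r : ℕ}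
    (τ : Red.DS (Spec (CommRingCat.of R)) (Fin r → ℤ) ⟶ Q) [IsMonHom τ] [Mono τ] (hself : SelfC τ)
    (hp : ∀ (X : Over (Spec (CommRingCat.of R))) (x : X ⟶ G),
      (∃ t, t ≫ i = x) ↔ ∃ t, t ≫ τ = x ≫ p) : Rep G := by
  refine H812.RepGen.of_etale_nhds (H828.MTHypSep.hyp_of_separated G) fun s => ?_
  obtain ⟨V, v, hv, hs, 𝒯, q, h1, h2, h3, h4, hEQ⟩ := hQ j τ hself s
  refine ⟨V, v, hv, hs, ?_⟩
  have g1 : Smooth (Red.bc v G).hom := inferInstanceAs (Smooth (pullback.snd G.hom v))
  have g2 : QuasiCompact (Red.bc v G).hom := inferInstanceAs (QuasiCompact (pullback.snd G.hom v))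
  have g3 : IsSeparated (Red.bc v G).hom := inferInstanceAs (IsSeparated (pullback.snd G.hom v))
  have hiv : Red.IsMaximalTorus ((Over.pullback v).map i) := H665.TorBcNA.isMaximalTorus_bc v hi
  have hi1 := hiv.1
  have hi2 := hiv.2.1
  have hcl : IsClosedImmersion ((Over.pullback v).map i).left :=
    H798.TorusClosed.isClosedImmersion_of_torus _ hiv.2.2.1
  have p1 : Flat ((Over.pullback v).map p).left :=
    MorphismProperty.of_isPullback (P := @Flat) (Parab.EtHom.isPullback_map v p) inferInstance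
  have p2 : Surjective ((Over.pullback v).map p).left :=
    MorphismProperty.of_isPullback (P := @Surjective) (Parab.EtHom.isPullback_map v p) inferInstance
  have p3 : LocallyOfFinitePresentation ((Over.pullback v).map p).left :=
    MorphismProperty.of_isPullback (P := @LocallyOfFinitePresentation) (Parab.EtHom.isPullback_map v p)
      inferInstance
  have q1 : Flat ((Over.pullback v).map p ≫ q).left := by
    rw [Over.comp_left]
    infer_instance
  have q2 : LocallyOfFinitePresentation ((Over.pullback v).map p ≫ q).left := by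
    rw [Over.comp_left]
    infer_instance
  have q3 : Surjective ((Over.pullback v).map p ≫ q).left := by
    rw [Over.comp_left]
    infer_instance
  refine H812.RepGen.of_quotient ((Over.pullback v).map i) hiv ((Over.pullback v).map p ≫ q)
    (H819.EqTrans.eQ_pull (mem_iff_bc v hp) hEQ) (fun x => H665.TorBcNA.isMaximalTorus_bc x hiv) ?_
  intro S' f T' _ i' hi'
  have f1 : Smooth (Red.bc f (Red.bc v G)).hom := inferInstanceAs (Smooth (pullback.snd (Red.bc v G).hom f))
  have f2 : QuasiCompact (Red.bc f (Red.bc v G)).hom :=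
    inferInstanceAs (QuasiCompact (pullback.snd (Red.bc v G).hom f))
  have f3 : IsSeparated (Red.bc f (Red.bc v G)).hom :=
    inferInstanceAs (IsSeparated (pullback.snd (Red.bc v G).hom f))
  obtain ⟨S'', c, hc1, hc2, g, hg⟩ := Groth.Agent.S4116.result S' (Red.bc f (Red.bc v G)) _ T'
    ((Over.pullback f).map ((Over.pullback v).map i)) i' (H665.TorBcNA.isMaximalTorus_bc f hiv) hi'
  exact ⟨S'', c, inferInstance, hc2, inferInstance, _,
    H813.ConjToBy.conjTo_of_conjBy ((Over.pullback v).map i) i' c g hg⟩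

/-- The case of a torus `T'` in `Q`, over any base. -/
theorem rep_of_torus (hQ : QLoc.{u}) {G T Q T' : Over S} [GrpObj G] [GrpObj T] [GrpObj Q] [GrpObj T']
    [Smooth G.hom] [QuasiCompact G.hom] [IsSeparated G.hom] (i : T ⟶ G) (hi : Red.IsMaximalTorus i)
    [Smooth Q.hom] [QuasiCompact Q.hom] [IsSeparated Q.hom] (p : G ⟶ Q) [IsMonHom p] [Flat p.left]
    [Surjective p.left] [LocallyOfFinitePresentation p.left] {m : Type u} [Fintype m] [DecidableEq m]
    (j : Q ⟶ GLS m S) [IsMonHom j] [Mono j] (τ : T' ⟶ Q) [IsMonHom τ] [Mono τ] (hT' : Red.IsTorus T')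
    (hself : SelfC τ) (hp : ∀ (X : Over S) (x : X ⟶ G), (∃ t, t ≫ i = x) ↔ ∃ t, t ≫ τ = x ≫ p) :
    Rep G := by
  refine H812.RepGen.of_etale_nhds (H828.MTHypSep.hyp_of_separated G) fun s => ?_
  obtain ⟨B, _, v, r, hv, hs, ⟨E⟩⟩ := TorusEtSplit.exists_etale_split T' hT' s
  refine ⟨_, v, hv, hs, ?_⟩
  have g1 : Smooth (Red.bc v G).hom := inferInstanceAs (Smooth (pullback.snd G.hom v))
  have g2 : QuasiCompact (Red.bc v G).hom := inferInstanceAs (QuasiCompact (pullback.snd G.hom v))
  have g3 : IsSeparated (Red.bc v G).hom := inferInstanceAs (IsSeparated (pullback.snd G.hom v))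
  have r1 : Smooth (Red.bc v Q).hom := inferInstanceAs (Smooth (pullback.snd Q.hom v))
  have r2 : QuasiCompact (Red.bc v Q).hom := inferInstanceAs (QuasiCompact (pullback.snd Q.hom v))
  have r3 : IsSeparated (Red.bc v Q).hom := inferInstanceAs (IsSeparated (pullback.snd Q.hom v))
  have p1 : Flat ((Over.pullback v).map p).left :=
    MorphismProperty.of_isPullback (P := @Flat) (Parab.EtHom.isPullback_map v p) inferInstance
  have p2 : Surjective ((Over.pullback v).map p).left :=
    MorphismProperty.of_isPullback (P := @Surjective) (Parab.EtHom.isPullback_map v p) inferInstance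
  have p3 : LocallyOfFinitePresentation ((Over.pullback v).map p).left :=
    MorphismProperty.of_isPullback (P := @LocallyOfFinitePresentation) (Parab.EtHom.isPullback_map v p)
      inferInstance
  obtain ⟨j', hj', hjm'⟩ := exists_bc_mono v j
  have hE : IsMonHom E.inv.hom.hom := E.inv.hom.isMonHom_hom
  have hE1 : E.inv.hom.hom ≫ E.hom.hom.hom = 𝟙 _ := congrArg (fun k => k.hom.hom) E.inv_hom_id
  have hE2 : E.hom.hom.hom ≫ E.inv.hom.hom = 𝟙 _ := congrArg (fun k => k.hom.hom) E.hom_inv_id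
  have hEm : Mono E.inv.hom.hom := mono_of_mono_fac hE1
  have hm1 : Mono ((Over.pullback v).map τ) := inferInstance
  have hm2 : Mono (E.inv.hom.hom ≫ (Over.pullback v).map τ) := mono_comp _ _
  refine rep_of_split hQ ((Over.pullback v).map i) (H665.TorBcNA.isMaximalTorus_bc v hi)
    ((Over.pullback v).map p) j' (E.inv.hom.hom ≫ (Over.pullback v).map τ) ?_ fun X x => ?_
  · exact selfC_of_arrow E (Iso.refl _) (by
      change (Over.pullback v).map τ ≫ 𝟙 _ = E.hom.hom.hom ≫ E.inv.hom.hom ≫ (Over.pullback v).map τ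
      rw [Category.comp_id, ← Category.assoc, hE2, Category.id_comp]) (selfC_bc v hself)
  · rw [mem_iff_bc v hp]
    constructor
    · rintro ⟨t, ht⟩
      refine ⟨t ≫ E.hom.hom.hom, ?_⟩
      rw [← ht, Category.assoc, ← Category.assoc E.hom.hom.hom, hE2, Category.id_comp]
    · rintro ⟨t, ht⟩
      exact ⟨t ≫ E.inv.hom.hom, by rw [Category.assoc, ht]⟩

/-- The case of a group with a self-centralizing maximal torus. -/
theorem rep_of_selfC (hQ : QLoc.{u}) {G T : Over S} [GrpObj G] [GrpObj T] [Smooth G.hom]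
    [QuasiCompact G.hom] [IsSeparated G.hom] (haff : AffDvrGrp789.AffFib G.hom)
    (hconn : ∀ s : S, _root_.IsConnected (G.hom.base ⁻¹' {s})) (i : T ⟶ G) [IsMonHom i] [Mono i]
    (hT : Red.IsTorus T) (hc : SelfC i) : Rep G := by
  refine H812.RepGen.of_etale_nhds (H828.MTHypSep.hyp_of_separated G) fun s => ?_
  obtain ⟨U, hsU, hUa, m, i1, i2, ρ, hρ, hcen⟩ := H819.CentKer.exists_rep_central G hconn s
  refine ⟨U, U.ι, inferInstance, by rw [Scheme.Opens.range_ι]; exact hsU, ?_⟩
  have g1 : Smooth (Red.bc U.ι G).hom := inferInstanceAs (Smooth (pullback.snd G.hom U.ι))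
  have g2 : QuasiCompact (Red.bc U.ι G).hom := inferInstanceAs (QuasiCompact (pullback.snd G.hom U.ι))
  have g3 : IsSeparated (Red.bc U.ι G).hom := inferInstanceAs (IsSeparated (pullback.snd G.hom U.ι))
  have haff' : AffDvrGrp789.AffFib (Red.bc U.ι G).hom :=
    haff.of_isPullback (IsPullback.of_hasPullback G.hom U.ι)
  have hconn' : ∀ s' : (U : Scheme.{u}), _root_.IsConnected ((Red.bc U.ι G).hom.base ⁻¹' {s'}) :=
    fun s' => H819.CentKer.isConnected_bc U.ι G hconn s'
  have hc' := selfC_bc U.ι hc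
  have hT1 := TorusBc.isTorus_bc U.ι hT
  obtain ⟨Q, iQ, p, j, T', iT', π, τ, hp, hj, hjm, hpj, hps, hpf, hpl, hQsm, hQs, hQc, hτ, hτm, hT', hπτ, hπs,
    hπf, hπl, hker, hself⟩ := RtQuot.exists_quotient haff' hconn' ((Over.pullback U.ι).map i) hT1 hc' ρ hcen
  exact rep_of_torus hQ ((Over.pullback U.ι).map i) (H832.SelfCent.isMaximalTorus_of_selfC hT1 hc') p j τ hT' hself
    (H819.EqTrans.mem_iff_of_quotient hker π hπτ.symm)

/-- **Clause (3) of S4124**, from the local existence of quotients. -/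
theorem rtProp (hQ : QLoc.{u}) : Asm.RTProp.{u} := by
  intro S G _ _ _ _ haff hconn hu hmax
  obtain ⟨S', f, hf, hsurj, T, _, i, hi⟩ := hmax
  have hR : Rep G := by
    refine H812.RepGen.of_etale_nhds (H828.MTHypSep.hyp_of_separated G) fun s => ?_
    refine ⟨S', f, hf, f.surjective s, ?_⟩
    have g1 : Smooth (Red.bc f G).hom := inferInstanceAs (Smooth (pullback.snd G.hom f))
    have g2 : QuasiCompact (Red.bc f G).hom := inferInstanceAs (QuasiCompact (pullback.snd G.hom f))
    have g3 : IsSeparated (Red.bc f G).hom := inferInstanceAs (IsSeparated (pullback.snd G.hom f))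
    have haff' : AffDvrGrp789.AffFib (Red.bc f G).hom :=
      haff.of_isPullback (IsPullback.of_hasPullback G.hom f)
    have hconn' : ∀ s' : S', _root_.IsConnected ((Red.bc f G).hom.base ⁻¹' {s'}) :=
      fun s' => H819.CentKer.isConnected_bc f G hconn s'
    have hi1 : IsMonHom i := hi.1
    have hi2 : Mono i := hi.2.1
    exact rep_of_selfC hQ haff' hconn' i hi.2.2.1 (SelfCFib.selfC_of_geomFibre i hi.2.2.1 fun s' =>
      H832.SelfCent.selfC_geomFibre f hu hi s')
  obtain ⟨𝒯, Tu, _, iu, h1, h2, h3⟩ := hR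
  exact ⟨𝒯, Tu, inferInstance, iu, h1, h2, h3⟩

end Groth.Agent.Sga3.H804.RtMain
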