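import Groth.Agent.Sga3.H804.RtField
import Groth.Agent.Sga3.H804.SelfCFib
import Groth.Agent.Sga3.H804.QaMain
import Groth.Agent.Sga3.H827.ImgTorus
import Groth.Agent.Sga3.H819.CentKer
import Groth.Agent.Sga3B.AffDvrGrp789
import Groth.Agent.Sga3B.GLn
import Groth.Agent.Sga3B.Parab.EtHom
import Groth.Agent.S0115
import Groth.Agent.S3036
import Groth.Agent.S4094

/-!
# The quotient of a group by the kernel of a representation with central kernel

`G` with a self-centralizing torus `T` and a representation `ρ` with central kernel `K`.  Then `K ⊂ T`, `G/K` is a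
subgroup of `GL_m` and `T/K` is a self-centralizing torus of `G/K`.
-/

set_option autoImplicit false

universe u

open CategoryTheory MonoidalCategory CartesianMonoidalCategory MonObj GrpObj AlgebraicGeometry Limits

namespace Groth.Agent.Sga3.H804.RtQuot

open Groth.Agent.Sga3B Groth.Agent.Sga3B.MaxTorBc636 Groth.Agent.Sga7.H760.KerBc

variable {S : Scheme.{u}}

lemma connectedSpace_geomFibre {G : Over S} [GrpObj G] [Smooth G.hom]
    (hconn : ∀ s : S, _root_.IsConnected (G.hom.base ⁻¹' {s})) (s : S) :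
    ConnectedSpace (Red.bc (Red.geomPt s) G).left := by
  let x₀ : Spec (CommRingCat.of (AlgebraicClosure (S.residueField s))) := IsLocalRing.closedPoint _
  have h1 := H819.CentKer.isConnected_bc (Red.geomPt s) G hconn x₀
  have h2 : ((Red.bc (Red.geomPt s) G).hom ⁻¹' {x₀}) = Set.univ :=
    Set.eq_univ_of_forall fun x => Subsingleton.elim ((Red.bc (Red.geomPt s) G).hom x) x₀
  rw [h2] at h1
  exact connectedSpace_iff_univ.mpr h1

theorem exists_quotient {G T : Over S} [GrpObj G] [GrpObj T] [Smooth G.hom] [QuasiCompact G.hom]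
    [IsSeparated G.hom] (haff : AffDvrGrp789.AffFib G.hom)
    (hconn : ∀ s : S, _root_.IsConnected (G.hom.base ⁻¹' {s})) (i : T ⟶ G) [IsMonHom i] [Mono i]
    (hT : Red.IsTorus T) (hc : SelfC i) {m : Type u} [Fintype m] [DecidableEq m]
    (ρ : G ⟶ GLn.GLS m S) [IsMonHom ρ] (hρ : ∀ (X : Over S) (x y : X ⟶ G), x ≫ ρ = 1 → x * y = y * x) :
    ∃ (Q : Over S) (_ : GrpObj Q) (p : G ⟶ Q) (j : Q ⟶ GLn.GLS m S) (T' : Over S) (_ : GrpObj T') (π : T ⟶ T')
      (τ : T' ⟶ Q), IsMonHom p ∧ IsMonHom j ∧ Mono j ∧ p ≫ j = ρ ∧ Surjective p.left ∧ Flat p.left ∧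
      LocallyOfFinitePresentation p.left ∧ Smooth Q.hom ∧ IsSeparated Q.hom ∧ QuasiCompact Q.hom ∧
      IsMonHom τ ∧ Mono τ ∧ Red.IsTorus T' ∧ π ≫ τ = i ≫ p ∧ Surjective π.left ∧ Flat π.left ∧
      LocallyOfFinitePresentation π.left ∧ (∀ (X : Over S) (x : X ⟶ G), x ≫ p = 1 → ∃ z, z ≫ i = x) ∧
      SelfC τ := by
  obtain ⟨z, hz⟩ := hc _ (Sga3B.KerGrp.kerι ρ) (fun X' x h => by
    refine hρ X' _ _ ?_
    rw [Category.assoc, Sga3B.KerGrp.kerι_comp, MonObj.comp_one])
  have hzk : AlgGrp.IsKernel z (i ≫ ρ) := by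
    rw [isKernel_iff]
    refine ⟨?_, fun X g hg => ?_⟩
    · rw [← Category.assoc, hz, Sga3B.KerGrp.kerι_comp]
    · obtain ⟨y, hy⟩ := Sga3B.KerGrp.exists_lift ρ (g ≫ i) (by rw [Category.assoc, hg])
      refine ⟨y, ?_, fun y' hy' => ?_⟩
      · change y ≫ z = g
        rw [← cancel_mono i, Category.assoc, hz, hy]
      · have h1 : y' ≫ z = g := hy'
        rw [← cancel_mono (Sga3B.KerGrp.kerι ρ), hy, ← hz, ← Category.assoc, h1]
  have hKf : Flat (Sga3B.KerGrp.kerObj ρ).hom := QaKer.flat_ker hT (i ≫ ρ) hzk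
  obtain ⟨e, he⟩ := exists_iso (isKernel_kerι ρ) (QaKer.isKernel_pullback ρ)
  have hKf' : Flat (pullback ρ η[GLn.GLS m S]).hom := by
    have h1 : (pullback ρ η[GLn.GLS m S]).hom = e.inv.left ≫ (Sga3B.KerGrp.kerObj ρ).hom := (Over.w _).symm
    rw [h1]
    infer_instance
  obtain ⟨Q, iQ, p, j, hp, hj, hpj, hps, hpf, hpl, hjm, hQl, hk⟩ :=
    Groth.Agent.S4094.result S G (GLn.GLS m S) ρ hKf'
  have hQsm : Smooth Q.hom := by
    have h7 : Smooth (p.left ≫ Q.hom) := by rw [Over.w]; infer_instance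
    exact Groth.Agent.S0115.result p.left Q.hom
  have hQc : QuasiCompact Q.hom := by
    have h1 : QuasiCompact (p.left ≫ Q.hom) := by rw [Over.w]; infer_instance
    exact QaMain.quasiCompact_of_surjective p.left Q.hom
  have hQs : IsSeparated Q.hom := by
    rw [← Over.w j]
    infer_instance
  have hker : ∀ (X : Over S) (x : X ⟶ G), x ≫ p = 1 → ∃ z, z ≫ i = x := by
    intro X x hx
    refine hc X x fun X' x' t => hρ X' _ _ ?_
    rw [← hpj, Category.assoc, ← Category.assoc x, hx, MonObj.one_comp, MonObj.comp_one]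
  obtain ⟨T', iT', π, τ, hπ, hτ, hπτ, hπs, hπf, hπl, hτm, hT'⟩ :=
    H827.ImgTorus.exists_image_torus (i ≫ p) hT
  refine ⟨Q, iQ, p, j, T', iT', π, τ, hp, hj, hjm, hpj, hps, hpf, hpl, hQsm, hQs, hQc, hτ, hτm, hT', hπτ, hπs,
    hπf, hπl, hker, ?_⟩
  refine SelfCFib.selfC_of_geomFibre τ hT' fun s => ?_
  have h1 : IsAffine (Red.bc (Red.geomPt s) G).left := haff _ (Red.geomPt s)
  have h2 : Smooth (Red.bc (Red.geomPt s) G).hom := inferInstanceAs (Smooth (pullback.snd G.hom _))
  have h3 := connectedSpace_geomFibre hconn s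
  have h4 : Smooth (Red.bc (Red.geomPt s) Q).hom := inferInstanceAs (Smooth (pullback.snd Q.hom _))
  have h5 : QuasiCompact (Red.bc (Red.geomPt s) Q).hom := inferInstanceAs (QuasiCompact (pullback.snd Q.hom _))
  have h6 : IsAffineHom (Red.bc (Red.geomPt s) (GLn.GLS m S)).hom :=
    inferInstanceAs (IsAffineHom (pullback.snd (GLn.GLS m S).hom _))
  have h7 : LocallyOfFiniteType (Red.bc (Red.geomPt s) (GLn.GLS m S)).hom :=
    inferInstanceAs (LocallyOfFiniteType (pullback.snd (GLn.GLS m S).hom _))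
  have h8 : IsMonHom ((Over.pullback (Red.geomPt s)).map j) := inferInstance
  have h9 : Mono ((Over.pullback (Red.geomPt s)).map j) := inferInstance
  have h10 : QuasiCompact ((Over.pullback (Red.geomPt s)).map j).left := by
    have h11 : QuasiCompact (((Over.pullback (Red.geomPt s)).map j).left ≫
        (Red.bc (Red.geomPt s) (GLn.GLS m S)).hom) := by
      rw [Over.w]
      exact h5
    exact QuasiCompact.of_comp _ (Red.bc (Red.geomPt s) (GLn.GLS m S)).hom
  have h12 : IsClosedImmersion ((Over.pullback (Red.geomPt s)).map j).left :=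
    Groth.Agent.S3036.result _ (Red.bc (Red.geomPt s) Q) (Red.bc (Red.geomPt s) (GLn.GLS m S))
      ((Over.pullback (Red.geomPt s)).map j)
  have h13 : IsAffine (Red.bc (Red.geomPt s) (GLn.GLS m S)).left := isAffine_of_isAffineHom
    (Red.bc (Red.geomPt s) (GLn.GLS m S)).hom
  have h14 : IsAffine (Red.bc (Red.geomPt s) Q).left :=
    isAffine_of_isAffineHom ((Over.pullback (Red.geomPt s)).map j).left
  have h15 : Surjective ((Over.pullback (Red.geomPt s)).map p).left :=
    MorphismProperty.of_isPullback (P := @Surjective) (Parab.EtHom.isPullback_map (Red.geomPt s) p) hps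
  have h16 : Surjective ((Over.pullback (Red.geomPt s)).map π).left :=
    MorphismProperty.of_isPullback (P := @Surjective) (Parab.EtHom.isPullback_map (Red.geomPt s) π) hπs
  refine RtField.selfC_of_quotient ((Over.pullback (Red.geomPt s)).map p)
    ((Over.pullback (Red.geomPt s)).map i) (TorusBc.isTorus_bc (Red.geomPt s) hT)
    (selfC_bc (Red.geomPt s) hc) ?_ ((Over.pullback (Red.geomPt s)).map τ)
    (TorusBc.isTorus_bc (Red.geomPt s) hT') ((Over.pullback (Red.geomPt s)).map π) ?_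
  · intro g hg
    obtain ⟨w, hw⟩ := hker _ (pullback.fst ρ η[GLn.GLS m S]) ((isKernel_iff _ _).1 hk).1
    obtain ⟨y, hy, -⟩ := ((isKernel_iff _ _).1 (isKernel_bc (Red.geomPt s) hk)).2 _ g hg
    refine ⟨y ≫ (Over.pullback (Red.geomPt s)).map w, ?_⟩
    rw [Category.assoc, ← Functor.map_comp, hw]
    exact hy
  · rw [← Functor.map_comp, ← Functor.map_comp, hπτ]

end Groth.Agent.Sga3.H804.RtQuot
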